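import Mathlib
import Groth.Agent.Lib.Helper8.PairHens.FormalLift

/-! Smoothness criteria via functionals on Kähler differentials (helper8).

* `functional_D_mem`: the differential of an element of `J² + KW` lies in `(J + KW) Ω`.
* `exists_functional_of_formallySmooth`: if `B/KB` is formally smooth over `A/K` and `π : W → B` is a
  surjection from an algebra with projective differentials, with kernel generated by `f`, there is
  a functional `s : Ω[W⁄A] → W^m` with `x ≡ ∑ s(dx)_k f_k` modulo `J² + KW` for `x ∈ J = ker π`.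
* `exists_extend_functional`: functionals extend along formally étale maps.
* `formallySmooth_quotient_of_functional`: Jacobian-type criterion for `W/(g)` to be formally smooth.
-/

set_option autoImplicit false
set_option linter.style.haveILetI false
universe u

open KaehlerDifferential

namespace Groth.Agent.H8.SmLift

section Dmem

variable {A W : Type*} [CommRing A] [CommRing W] [Algebra A W]

/-- The differential of an element of `J² + KW` lies in `(J + KW)Ω`; stated through functionals. -/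
theorem functional_D_mem (J : Ideal W) (K : Ideal A) (ℓ : Ω[W⁄A] →ₗ[W] W) {x : W}
    (hx : x ∈ J ^ 2 ⊔ K.map (algebraMap A W)) :
    ℓ (D A W x) ∈ J ⊔ K.map (algebraMap A W) := by
  obtain ⟨y, hy, z, hz, rfl⟩ := Submodule.mem_sup.mp hx
  rw [map_add, map_add]
  refine add_mem (Ideal.mem_sup_left ?_) (Ideal.mem_sup_right ?_)
  · rw [pow_two] at hy
    refine Submodule.mul_induction_on hy (fun a ha b hb => ?_) (fun a b ha hb => ?_)
    · rw [Derivation.leibniz, map_add, map_smul, map_smul, smul_eq_mul, smul_eq_mul]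
      exact add_mem (Ideal.mul_mem_right _ _ ha) (Ideal.mul_mem_right _ _ hb)
    · rw [map_add, map_add]; exact add_mem ha hb
  · refine Submodule.span_induction
      (p := fun z _ => ℓ (D A W z) ∈ K.map (algebraMap A W)) ?_ ?_ ?_ ?_ hz
    · rintro _ ⟨a, _, rfl⟩
      rw [Derivation.map_algebraMap, map_zero]; exact zero_mem _
    · rw [map_zero, map_zero]; exact zero_mem _
    · intro a b _ _ ha hb; rw [map_add, map_add]; exact add_mem ha hb
    · intro c z hz' hz''
      rw [smul_eq_mul, Derivation.leibniz, map_add, map_smul, map_smul, smul_eq_mul, smul_eq_mul]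
      exact add_mem (Ideal.mul_mem_left _ _ hz'') (Ideal.mul_mem_right _ _ hz')

end Dmem

section LemmaD

variable {A W B : Type u} [CommRing A] [CommRing W] [CommRing B] [Algebra A W] [Algebra A B]

/-- Functional form of the conormal splitting coming from formal smoothness of `B/KB` over
`A/K`. -/
theorem exists_functional_of_formallySmooth (K : Ideal A)
    [Algebra.FormallySmooth (A ⧸ K) (B ⧸ K.map (algebraMap A B))]
    [Module.Projective W Ω[W⁄A]]
    (π : W →ₐ[A] B) (hπ : Function.Surjective π) {m : ℕ} (f : Fin m → W)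
    (hf : Ideal.span (Set.range f) = RingHom.ker (π : W →+* B)) :
    ∃ s : Ω[W⁄A] →ₗ[W] (Fin m → W), ∀ x ∈ RingHom.ker (π : W →+* B),
      x - ∑ k, s (D A W x) k * f k ∈
        RingHom.ker (π : W →+* B) ^ 2 ⊔ K.map (algebraMap A W) := by
  classical
  set J : Ideal W := RingHom.ker (π : W →+* B) with hJ
  set KW : Ideal W := K.map (algebraMap A W) with hKW
  set T : Ideal W := J ^ 2 ⊔ KW with hT
  have hJmem : ∀ w : W, w ∈ J ↔ π w = 0 := fun w => Iff.rfl
  have hKB : KW.map (π : W →+* B) = K.map (algebraMap A B) := by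
    rw [hKW, Ideal.map_map]
    congr 1
    ext a
    exact π.commutes a
  have hTC : ∀ a ∈ T, (Ideal.Quotient.mkₐ A (K.map (algebraMap A B))).comp π a = 0 := by
    intro a ha
    obtain ⟨y, hy, z, hz, rfl⟩ := Submodule.mem_sup.mp ha
    have hy' : π y = 0 := (hJmem y).mp (Ideal.pow_le_self two_ne_zero hy)
    have hz' : π z ∈ K.map (algebraMap A B) := by
      rw [← hKB]; exact Ideal.mem_map_of_mem (π : W →+* B) hz
    rw [AlgHom.comp_apply, map_add, hy', zero_add]
    exact Ideal.Quotient.eq_zero_iff_mem.mpr hz'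
  let p : (W ⧸ T) →ₐ[A] (B ⧸ K.map (algebraMap A B)) :=
    Ideal.Quotient.liftₐ T ((Ideal.Quotient.mkₐ A _).comp π) hTC
  have hp_mk : ∀ w : W, p (Ideal.Quotient.mk T w) = Ideal.Quotient.mk _ (π w) := fun w => rfl
  have hp : Function.Surjective p := by
    intro y
    obtain ⟨b, rfl⟩ := Ideal.Quotient.mk_surjective y
    obtain ⟨w, rfl⟩ := hπ b
    exact ⟨Ideal.Quotient.mk T w, rfl⟩
  set N : Ideal (W ⧸ T) := RingHom.ker (p : (W ⧸ T) →+* (B ⧸ K.map (algebraMap A B))) with hN
  have hNmem : ∀ y : W ⧸ T, y ∈ N ↔ p y = 0 := fun y => Iff.rfl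
  have hNle : ∀ y ∈ N, ∃ j ∈ J, Ideal.Quotient.mk T j = y := by
    intro y hy
    obtain ⟨w, rfl⟩ := Ideal.Quotient.mk_surjective y
    have h1 : Ideal.Quotient.mk (K.map (algebraMap A B)) (π w) = 0 := (hNmem _).mp hy
    have h2 : π w ∈ KW.map (π : W →+* B) := by
      rw [hKB]; exact Ideal.Quotient.eq_zero_iff_mem.mp h1
    obtain ⟨w', hw', hw''⟩ := (Ideal.mem_map_iff_of_surjective (π : W →+* B) hπ).mp h2
    have hw3 : π w' = π w := hw''
    refine ⟨w - w', ?_, ?_⟩
    · rw [hJmem, map_sub, hw3, sub_self]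
    · rw [map_sub, sub_eq_self, Ideal.Quotient.eq_zero_iff_mem]
      exact Ideal.mem_sup_right hw'
  have hN2 : N ^ 2 = ⊥ := by
    rw [eq_bot_iff, pow_two]
    refine Ideal.mul_le.mpr fun a ha b hb => ?_
    obtain ⟨j, hj, rfl⟩ := hNle a ha
    obtain ⟨j', hj', rfl⟩ := hNle b hb
    rw [← map_mul, Ideal.mem_bot, Ideal.Quotient.eq_zero_iff_mem]
    refine Ideal.mem_sup_left ?_
    rw [pow_two]; exact Ideal.mul_mem_mul hj hj'
  have hE : K.map (algebraMap A (W ⧸ T)) = ⊥ := by
    rw [eq_bot_iff, Ideal.map_le_iff_le_comap]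
    intro a ha
    rw [Ideal.mem_comap, Ideal.mem_bot]
    show Ideal.Quotient.mk T (algebraMap A W a) = 0
    rw [Ideal.Quotient.eq_zero_iff_mem]
    exact Ideal.mem_sup_right (Ideal.mem_map_of_mem _ ha)
  have hC : K.map (algebraMap A (B ⧸ K.map (algebraMap A B))) = ⊥ := by
    rw [eq_bot_iff, Ideal.map_le_iff_le_comap]
    intro a ha
    rw [Ideal.mem_comap, Ideal.mem_bot]
    show Ideal.Quotient.mk _ (algebraMap A B a) = 0
    rw [Ideal.Quotient.eq_zero_iff_mem]
    exact Ideal.mem_map_of_mem _ ha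
  obtain ⟨v, hv⟩ := PairHens.exists_lift_of_formallySmooth K (B := B) (W ⧸ T)
    (B ⧸ K.map (algebraMap A B)) hE hC p hp ⟨2, hN2⟩ (Ideal.Quotient.mkₐ A _)
  have hv' : ∀ b, p (v b) = Ideal.Quotient.mk _ b := fun b => AlgHom.congr_fun hv b
  let F : W →ₐ[A] (W ⧸ T) := v.comp π
  have e : (Ideal.Quotient.mkₐ A N).comp F = IsScalarTower.toAlgHom A W ((W ⧸ T) ⧸ N) := by
    ext w
    show Ideal.Quotient.mk N (v (π w)) = Ideal.Quotient.mk N (Ideal.Quotient.mk T w)
    rw [Ideal.Quotient.eq, hNmem, map_sub, hv', hp_mk, sub_self]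
  let d : Derivation A W N := derivationToSquareZeroOfLift N hN2 F e
  have hd : ∀ w, ((d w : N) : W ⧸ T) = v (π w) - Ideal.Quotient.mk T w := fun w => rfl
  let ℓ : Ω[W⁄A] →ₗ[W] N := d.liftKaehlerDifferential
  have hℓ : ∀ w, ℓ (D A W w) = d w := fun w => Derivation.liftKaehlerDifferential_comp_D d w
  let lin : (Fin m → W) →ₗ[W] (W ⧸ T) :=
    (Algebra.linearMap W (W ⧸ T)).comp (Fintype.linearCombination W f)
  have hlin : ∀ c, lin c = Ideal.Quotient.mk T (∑ k, c k * f k) := by
    intro c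
    show algebraMap W (W ⧸ T) (Fintype.linearCombination W f c) = _
    rw [Fintype.linearCombination_apply]
    simp only [smul_eq_mul]
    rfl
  have hsumJ : ∀ c : Fin m → W, (∑ k, c k * f k) ∈ J := by
    intro c
    rw [← hf]
    exact Ideal.sum_mem _ fun k _ => Ideal.mul_mem_left _ _ (Ideal.subset_span ⟨k, rfl⟩)
  have hlinN : ∀ c, lin c ∈ N.restrictScalars W := by
    intro c
    rw [Submodule.restrictScalars_mem, hlin, hNmem, hp_mk, (hJmem _).mp (hsumJ c), map_zero]
  let q' : (Fin m → W) →ₗ[W] N := LinearMap.codRestrict (N.restrictScalars W) lin hlinN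
  have hq'val : ∀ c, ((q' c : N) : W ⧸ T) = lin c := fun c => rfl
  have hq' : Function.Surjective q' := by
    intro y
    obtain ⟨j, hj, hjy⟩ := hNle y.1 y.2
    rw [← hf] at hj
    obtain ⟨c, hc⟩ := Ideal.mem_span_range_iff_exists_fun.mp hj
    refine ⟨c, Subtype.ext ?_⟩
    rw [hq'val, hlin, hc, hjy]
  obtain ⟨s₀, hs₀⟩ := Module.projective_lifting_property q' ℓ hq'
  refine ⟨-s₀, fun x hx => ?_⟩
  have h1 : q' (s₀ (D A W x)) = d x := by
    rw [← hℓ]; exact LinearMap.congr_fun hs₀ _
  have h2 : lin (s₀ (D A W x)) = v (π x) - Ideal.Quotient.mk T x := by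
    rw [← hd, ← hq'val, h1]
  have hx0 : π x = 0 := (hJmem x).mp hx
  rw [hlin, hx0, map_zero, zero_sub] at h2
  have h3 : x - ∑ k, (-s₀) (D A W x) k * f k = x + ∑ k, s₀ (D A W x) k * f k := by
    simp only [LinearMap.neg_apply, Pi.neg_apply, neg_mul, Finset.sum_neg_distrib, sub_neg_eq_add]
  rw [h3, ← Ideal.Quotient.eq_zero_iff_mem, map_add, h2, add_neg_cancel]

end LemmaD

section BC

variable {A S T : Type*} [CommRing A] [CommRing S] [CommRing T] [Algebra A S] [Algebra A T]
  [Algebra S T] [IsScalarTower A S T]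

/-- Functionals on differentials extend along formally étale maps. -/
theorem exists_extend_functional [Algebra.FormallyEtale S T] {m : ℕ}
    (ℓ : Ω[S⁄A] →ₗ[S] (Fin m → S)) :
    ∃ ℓ' : Ω[T⁄A] →ₗ[T] (Fin m → T), ∀ (x : S) (k : Fin m),
      ℓ' (D A T (algebraMap S T x)) k = algebraMap S T (ℓ (D A S x) k) := by
  have hbc := KaehlerDifferential.isBaseChange_of_formallyEtale A S T
  let c : (Fin m → S) →ₗ[S] (Fin m → T) := (Algebra.linearMap S T).compLeft (Fin m)
  refine ⟨hbc.lift (c.comp ℓ), fun x k => ?_⟩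
  have h1 : KaehlerDifferential.map A A S T (D A S x) = D A T (algebraMap S T x) :=
    KaehlerDifferential.map_D A A S T x
  rw [← h1, hbc.lift_eq]
  rfl

end BC

section LemmaS

variable {A W : Type u} [CommRing A] [CommRing W] [Algebra A W]

/-- A Jacobian-type criterion: `W/(g)` is formally smooth over `A` as soon as there is a functional
`s` on `Ω[W⁄A]` with `g i ≡ ∑ s(d g i)_k g_k` modulo `(g)²`. -/
theorem formallySmooth_quotient_of_functional [Algebra.FormallySmooth A W] {m : ℕ}
    (g : Fin m → W) (s : Ω[W⁄A] →ₗ[W] (Fin m → W))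
    (h : ∀ i, g i - ∑ k, s (D A W (g i)) k * g k ∈ Ideal.span (Set.range g) ^ 2) :
    Algebra.FormallySmooth A (W ⧸ Ideal.span (Set.range g)) := by
  classical
  set K : Ideal W := Ideal.span (Set.range g) with hK
  rw [Algebra.FormallySmooth.iff_comp_surjective]
  intro C _ _ N hN φ
  obtain ⟨ψ, hψ⟩ := Algebra.FormallySmooth.comp_surjective A W N hN
    (φ.comp (Ideal.Quotient.mkₐ A K))
  have hψ' : ∀ w, Ideal.Quotient.mk N (ψ w) = φ (Ideal.Quotient.mk K w) :=
    fun w => AlgHom.congr_fun hψ w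
  have hψK : ∀ x ∈ K, ψ x ∈ N := by
    intro x hx
    rw [← Ideal.Quotient.eq_zero_iff_mem, hψ', Ideal.Quotient.eq_zero_iff_mem.mpr hx, map_zero]
  have hψK2 : ∀ x ∈ K ^ 2, ψ x = 0 := by
    intro x hx
    rw [pow_two] at hx
    refine Submodule.mul_induction_on hx (fun a ha b hb => ?_) (fun a b ha hb => ?_)
    · rw [map_mul, ← Ideal.mem_bot, ← hN, pow_two]
      exact Ideal.mul_mem_mul (hψK a ha) (hψK b hb)
    · rw [map_add, ha, hb, add_zero]
  letI : Algebra W C := ψ.toRingHom.toAlgebra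
  haveI : IsScalarTower A W C := IsScalarTower.of_algebraMap_eq (fun a => (ψ.commutes a).symm)
  have halg : ∀ w, algebraMap W C w = ψ w := fun _ => rfl
  let ν : Fin m → N := fun k => ⟨ψ (g k), hψK _ (Ideal.subset_span ⟨k, rfl⟩)⟩
  let ℓ : Ω[W⁄A] →ₗ[W] N := -((Fintype.linearCombination W ν).comp s)
  let d : Derivation A W N := ℓ.compDer (D A W)
  have hd : ∀ w, ((d w : N) : C) = -∑ k, ψ (s (D A W w) k) * ψ (g k) := by
    intro w
    show ((ℓ (D A W w) : N) : C) = _
    simp only [ℓ, LinearMap.neg_apply, LinearMap.comp_apply, Fintype.linearCombination_apply,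
      Submodule.coe_neg, Submodule.coe_sum, Submodule.coe_smul_of_tower, Algebra.smul_def, halg, ν]
  let F : W →ₐ[A] C := liftOfDerivationToSquareZero N hN d
  have hF : ∀ w, F w = (d w : C) + ψ w := fun w => rfl
  have hFg : ∀ i, F (g i) = 0 := by
    intro i
    have h1 := hψK2 _ (h i)
    rw [map_sub, map_sum] at h1
    simp only [map_mul] at h1
    rw [hF, hd]
    linear_combination h1
  have hFK : ∀ x ∈ K, F x = 0 := by
    intro x hx
    refine Submodule.span_induction (p := fun x _ => F x = 0) ?_ ?_ ?_ ?_ hx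
    · rintro _ ⟨i, rfl⟩; exact hFg i
    · exact map_zero _
    · intro a b _ _ ha hb; rw [map_add, ha, hb, add_zero]
    · intro c a _ ha; rw [smul_eq_mul, map_mul, ha, mul_zero]
  refine ⟨Ideal.Quotient.liftₐ K F hFK, ?_⟩
  apply AlgHom.ext
  intro x
  obtain ⟨w, rfl⟩ := Ideal.Quotient.mk_surjective x
  show Ideal.Quotient.mk N (F w) = φ (Ideal.Quotient.mk K w)
  rw [hF, map_add, Ideal.Quotient.eq_zero_iff_mem.mpr (d w).2, zero_add, hψ']

end LemmaS

theorem formallySmooth_quotient_of_eq {A R : Type*} [CommRing A] [CommRing R] [Algebra A R]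
    {K K' : Ideal A} (h : K = K') [Algebra.FormallySmooth (A ⧸ K) (R ⧸ K.map (algebraMap A R))] :
    Algebra.FormallySmooth (A ⧸ K') (R ⧸ K'.map (algebraMap A R)) := by
  subst h; infer_instance

end Groth.Agent.H8.SmLift
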