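import Mathlib
import Groth.Agent.Lib.Helper8.SmLift.Crit

/-! Matrix computations for lifting smooth algebras (helper8). -/

set_option autoImplicit false
set_option linter.style.haveILetI false
universe u

open KaehlerDifferential

namespace Groth.Agent.H8.SmLift

section Mat

variable {W : Type*} [CommRing W] {m : ℕ}

theorem mul_mem_of_left (𝔞 : Ideal W) (X Y : Matrix (Fin m) (Fin m) W)
    (hX : ∀ i k, X i k ∈ 𝔞) (i k : Fin m) : (X * Y) i k ∈ 𝔞 := by
  rw [Matrix.mul_apply]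
  exact Ideal.sum_mem _ fun l _ => Ideal.mul_mem_right _ _ (hX i l)

theorem mul_mem_of_right (𝔞 : Ideal W) (X Y : Matrix (Fin m) (Fin m) W)
    (hY : ∀ i k, Y i k ∈ 𝔞) (i k : Fin m) : (X * Y) i k ∈ 𝔞 := by
  rw [Matrix.mul_apply]
  exact Ideal.sum_mem _ fun l _ => Ideal.mul_mem_left _ _ (hY l k)

theorem det_sub_one_mem (𝔞 : Ideal W) (U : Matrix (Fin m) (Fin m) W)
    (hU : ∀ i k, (U - 1) i k ∈ 𝔞) : U.det - 1 ∈ 𝔞 := by
  rw [← Ideal.Quotient.eq_zero_iff_mem, map_sub, map_one, sub_eq_zero, RingHom.map_det]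
  have : (Ideal.Quotient.mk 𝔞).mapMatrix U = 1 := by
    ext i k
    rw [RingHom.mapMatrix_apply, Matrix.map_apply]
    have h := hU i k
    rw [Matrix.sub_apply, ← Ideal.Quotient.eq_zero_iff_mem, map_sub, sub_eq_zero] at h
    rw [h]
    simp only [Matrix.one_apply]
    split_ifs <;> simp
  rw [this, Matrix.det_one]

end Mat

section Der

variable {A W : Type*} [CommRing A] [CommRing W] [Algebra A W] {m : ℕ}

/-- If `a = E b` then `s(d a_i)_k ≡ ∑ E_il s(d b_l)_k` modulo the ideal generated by `b`. -/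
theorem functional_D_sub_mem (s : Ω[W⁄A] →ₗ[W] (Fin m → W)) (E : Matrix (Fin m) (Fin m) W)
    (a b : Fin m → W) (hab : ∀ i, a i = ∑ l, E i l * b l) (i k : Fin m) :
    s (D A W (a i)) k - ∑ l, E i l * s (D A W (b l)) k ∈ Ideal.span (Set.range b) := by
  have h1 : s (D A W (a i)) k =
      ∑ l, (E i l * s (D A W (b l)) k + b l * s (D A W (E i l)) k) := by
    rw [hab i, map_sum, map_sum, Finset.sum_apply]
    refine Finset.sum_congr rfl fun l _ => ?_
    rw [Derivation.leibniz, map_add, map_smul, map_smul, Pi.add_apply, Pi.smul_apply,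
      Pi.smul_apply, smul_eq_mul, smul_eq_mul]
  rw [h1, Finset.sum_add_distrib, add_sub_cancel_left]
  exact Ideal.sum_mem _ fun l _ => Ideal.mul_mem_right _ _ (Ideal.subset_span ⟨l, rfl⟩)

/-- Stage 1: the matrix `M₀ = (s(d f_i)_k)` is idempotent modulo `J + KW`. -/
theorem sq_sub_self_mem (J : Ideal W) (K : Ideal A) (s : Ω[W⁄A] →ₗ[W] (Fin m → W))
    (f : Fin m → W) (hfJ : ∀ i, f i ∈ J)
    (M₀ : Matrix (Fin m) (Fin m) W) (hM₀ : ∀ i k, M₀ i k = s (D A W (f i)) k)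
    (hz : ∀ i, f i - ∑ l, M₀ i l * f l ∈ J ^ 2 ⊔ K.map (algebraMap A W)) (i k : Fin m) :
    (M₀ * M₀ - M₀) i k ∈ J ⊔ K.map (algebraMap A W) := by
  have h1 : s (D A W (f i - ∑ l, M₀ i l * f l)) k ∈ J ⊔ K.map (algebraMap A W) :=
    functional_D_mem J K ((LinearMap.proj k).comp s) (hz i)
  have h2 : s (D A W (f i - ∑ l, M₀ i l * f l)) k =
      M₀ i k - ∑ l, (M₀ i l * M₀ l k + f l * s (D A W (M₀ i l)) k) := by
    rw [map_sub, map_sum, map_sub, map_sum, Pi.sub_apply, Finset.sum_apply, ← hM₀ i k]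
    congr 1
    refine Finset.sum_congr rfl fun l _ => ?_
    rw [Derivation.leibniz, map_add, map_smul, map_smul, Pi.add_apply, Pi.smul_apply,
      Pi.smul_apply, smul_eq_mul, smul_eq_mul, ← hM₀ l k]
  rw [h2, Finset.sum_add_distrib] at h1
  have h3 : (∑ l, f l * s (D A W (M₀ i l)) k) ∈ J ⊔ K.map (algebraMap A W) :=
    Ideal.sum_mem _ fun l _ => Ideal.mul_mem_right _ _ (Ideal.mem_sup_left (hfJ l))
  have h4 : (M₀ * M₀ - M₀) i k =
      -(M₀ i k - (∑ l, M₀ i l * M₀ l k + ∑ l, f l * s (D A W (M₀ i l)) k)) -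
        ∑ l, f l * s (D A W (M₀ i l)) k := by
    rw [Matrix.sub_apply, Matrix.mul_apply]; ring
  rw [h4]
  exact sub_mem (neg_mem h1) h3

/-- Stage 2: the determinant of `U = M E + (1 - E)` is congruent to `1`. -/
theorem det_sub_one_mem_of_data (𝔞 J : Ideal W) (hJ𝔞 : J ≤ 𝔞)
    (s : Ω[W⁄A] →ₗ[W] (Fin m → W)) (f g : Fin m → W) (hfJ : ∀ i, f i ∈ J)
    (E M₀ M : Matrix (Fin m) (Fin m) W) (hE : E * E = E)
    (hg : ∀ i, g i = ∑ l, E i l * f l)
    (hM₀ : ∀ i k, M₀ i k = s (D A W (f i)) k) (hM : ∀ i k, M i k = s (D A W (g i)) k)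
    (hEM : ∀ i k, E i k - M₀ i k ∈ 𝔞) :
    (M * E + (1 - E)).det - 1 ∈ 𝔞 := by
  apply det_sub_one_mem
  have h1 : ∀ i k, (M - E) i k ∈ 𝔞 := by
    intro i k
    have h2 := functional_D_sub_mem s E g f hg i k
    have hEE : E i k = ∑ l, E i l * E l k := by rw [← Matrix.mul_apply, hE]
    have h3 : (M - E) i k =
        (M i k - ∑ l, E i l * M₀ l k) + ∑ l, E i l * (M₀ l k - E l k) := by
      rw [Matrix.sub_apply]
      conv_lhs => rw [hEE]
      simp only [mul_sub, Finset.sum_sub_distrib]; ring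
    rw [h3]
    refine add_mem ?_ (Ideal.sum_mem _ fun l _ => Ideal.mul_mem_left _ _ ?_)
    · rw [hM i k]
      simp only [hM₀]
      exact hJ𝔞 ((Ideal.span_le.mpr (by rintro _ ⟨l, rfl⟩; exact hfJ l)) h2)
    · have := hEM l k
      rw [← neg_sub]; exact neg_mem this
  intro i k
  have h4 : (M * E + (1 - E) - 1) = (M - E) * E := by
    rw [sub_mul, hE]; abel
  rw [h4]
  exact mul_mem_of_left 𝔞 _ _ h1 i k

/-- Nakayama step: after inverting an element congruent to `1`, `J ⊆ (g) + KW`. -/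
theorem exists_mul_mem (𝔞 J KW : Ideal W) (f g : Fin m → W)
    (hJ : J = Ideal.span (Set.range f)) (hJ𝔞 : J ≤ 𝔞)
    (E M₀ : Matrix (Fin m) (Fin m) W) (hg : ∀ i, g i = ∑ l, E i l * f l)
    (hEM : ∀ i k, E i k - M₀ i k ∈ 𝔞)
    (hz : ∀ i, f i - ∑ l, M₀ i l * f l ∈ J ^ 2 ⊔ KW) :
    ∃ r : W, r - 1 ∈ 𝔞 ∧ ∀ j ∈ J, r * j ∈ Ideal.span (Set.range g) ⊔ KW := by
  have hfg : J.FG := by rw [hJ]; exact Submodule.fg_span (Set.finite_range f)
  have hfJ : ∀ i, f i ∈ J := fun i => by rw [hJ]; exact Ideal.subset_span ⟨i, rfl⟩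
  have hfi : ∀ i, f i ∈ (Ideal.span (Set.range g) ⊔ KW) ⊔ 𝔞 • J := by
    intro i
    have e : f i = g i + ((f i - ∑ l, M₀ i l * f l) + ∑ l, (M₀ i l - E i l) * f l) := by
      rw [hg i]
      simp only [sub_mul, Finset.sum_sub_distrib]; ring
    rw [e]
    refine add_mem (Ideal.mem_sup_left (Ideal.mem_sup_left (Ideal.subset_span ⟨i, rfl⟩)))
      (add_mem ?_ ?_)
    · obtain ⟨y, hy, z, hz', hyz⟩ := Submodule.mem_sup.mp (hz i)
      rw [← hyz]
      refine add_mem (Ideal.mem_sup_right ?_) (Ideal.mem_sup_left (Ideal.mem_sup_right hz'))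
      rw [smul_eq_mul]
      rw [pow_two] at hy
      exact Ideal.mul_mono_left hJ𝔞 hy
    · refine Ideal.mem_sup_right (Ideal.sum_mem _ fun l _ => ?_)
      rw [smul_eq_mul]
      refine Ideal.mul_mem_mul ?_ (hfJ l)
      have := hEM i l
      rw [← neg_sub]; exact neg_mem this
  have hle : J ≤ (Ideal.span (Set.range g) ⊔ KW) ⊔ 𝔞 • J :=
    calc J = Ideal.span (Set.range f) := hJ
      _ ≤ _ := Ideal.span_le.mpr (by rintro _ ⟨i, rfl⟩; exact hfi i)
  obtain ⟨r, hr1, hr2⟩ :=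
    Submodule.exists_sub_one_mem_and_smul_le_of_fg_of_le_sup hfg le_rfl hle
  refine ⟨r, hr1, fun j hj => ?_⟩
  have := hr2 (Submodule.smul_mem_pointwise_smul j r J hj)
  simpa [smul_eq_mul] using this

end Der

section Final

variable {A W : Type u} [CommRing A] [CommRing W] [Algebra A W] {m : ℕ}

/-- Final step: with `U = M E + (1 - E)` invertible, `W/(g)` is formally smooth. -/
theorem formallySmooth_quotient_of_matrix [Algebra.FormallySmooth A W]
    (s : Ω[W⁄A] →ₗ[W] (Fin m → W)) (E M V : Matrix (Fin m) (Fin m) W) (g : Fin m → W)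
    (hE : E * E = E) (hg : ∀ i, g i = ∑ l, E i l * g l)
    (hM : ∀ i k, M i k = s (D A W (g i)) k)
    (hUV : (M * E + (1 - E)) * V = 1) :
    Algebra.FormallySmooth A (W ⧸ Ideal.span (Set.range g)) := by
  classical
  set K : Ideal W := Ideal.span (Set.range g) with hK
  have hΔ : ∀ i k, (M - E * M) i k ∈ K := by
    intro i k
    have h := functional_D_sub_mem s E g g hg i k
    simp only [← hM] at h
    rw [Matrix.sub_apply, Matrix.mul_apply]
    exact h
  have h1 : E * M * E * V = E := by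
    have e1 : E * (M * E + (1 - E)) = E * M * E := by
      rw [mul_add, mul_sub, mul_one, hE, sub_self, add_zero, mul_assoc]
    have e2 : E * (M * E + (1 - E)) * V = E := by rw [mul_assoc, hUV, mul_one]
    rw [← e1, e2]
  have h3 : M * (E * V) - E = (M - E * M) * (E * V) := by
    rw [sub_mul, ← mul_assoc (E * M) E V, h1]
  have hN₂ : ∀ i k, (M * (E * V) - E) i k ∈ K := by
    intro i k
    rw [h3]
    exact mul_mem_of_left K _ _ hΔ i k
  let s₂ : Ω[W⁄A] →ₗ[W] (Fin m → W) := (Matrix.vecMulLinear (E * V)).comp s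
  have hs₂ : ∀ i k, s₂ (D A W (g i)) k = (M * (E * V)) i k := by
    intro i k
    simp only [s₂, LinearMap.comp_apply, Matrix.vecMulLinear_apply, Matrix.vecMul, dotProduct,
      Matrix.mul_apply, hM]
  refine formallySmooth_quotient_of_functional g s₂ fun i => ?_
  have e : g i - ∑ k, s₂ (D A W (g i)) k * g k =
      -∑ k, (M * (E * V) - E) i k * g k := by
    simp only [hs₂, Matrix.sub_apply, sub_mul, Finset.sum_sub_distrib]
    rw [← hg i]; ring
  rw [e, pow_two]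
  refine neg_mem (Ideal.sum_mem _ fun k _ => Ideal.mul_mem_mul (hN₂ i k) ?_)
  exact Ideal.subset_span ⟨k, rfl⟩

end Final

end Groth.Agent.H8.SmLift
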