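import Mathlib
import Groth.Agent.Lib.Helper8.SmLift.Crit
import Groth.Agent.Lib.Helper8.SmLift.Mat
import Groth.Agent.Lib.Helper8.PairHens.HEtale
import Groth.Agent.Lib.Helper8.PairHens.ProjDescent
import Groth.Agent.Lib.Helper8.PairHens.SmoothAway
import Groth.Agent.Lib.Helper8.PairHens.Lift

/-! Lifting smooth algebras along a henselization: smooth models (helper8). -/

set_option autoImplicit false
set_option linter.style.haveILetI false
set_option linter.unusedSectionVars false
universe u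

open KaehlerDifferential

namespace Groth.Agent.H8.SmLift

open Groth.Agent.H8.PairHens

section C1

variable {A : Type u} [CommRing A] (I : Ideal A)
  {P : Type u} [CommRing P] [Algebra A P] [Algebra.FormallySmooth A P]
  [Algebra.FinitePresentation A P]
  {P' : Type u} [CommRing P'] [Algebra P P'] [Algebra A P'] [IsScalarTower A P P']
  [Algebra.Etale P P'] {m : ℕ}

/-- Core construction inside an étale neighbourhood `P'` carrying an idempotent matrix `E`. -/
theorem exists_away_smooth_quotient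
    (f : Fin m → P) (s : Ω[P⁄A] →ₗ[P] (Fin m → P))
    (hz : ∀ i, f i - ∑ l, s (D A P (f i)) l * f l ∈
      Ideal.span (Set.range f) ^ 2 ⊔ I.map (algebraMap A P))
    (E : Matrix (Fin m) (Fin m) P') (hE : E * E = E)
    (hEM : ∀ i k, E i k - algebraMap P P' (s (D A P (f i)) k) ∈
      (Ideal.span (Set.range f) ⊔ I.map (algebraMap A P)).map (algebraMap P P')) :
    ∃ h₂ : P',
      h₂ - 1 ∈ (Ideal.span (Set.range f) ⊔ I.map (algebraMap A P)).map (algebraMap P P') ∧
      Algebra.Smooth A (Localization.Away h₂ ⧸ Ideal.span (Set.range fun i =>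
        algebraMap P' (Localization.Away h₂) (∑ l, E i l * algebraMap P P' (f l)))) ∧
      (Ideal.span (Set.range f)).map (algebraMap P (Localization.Away h₂)) ≤
        Ideal.span (Set.range fun i =>
          algebraMap P' (Localization.Away h₂) (∑ l, E i l * algebraMap P P' (f l))) ⊔
        I.map (algebraMap A (Localization.Away h₂)) := by
  classical
  set J : Ideal P := Ideal.span (Set.range f) with hJ
  set 𝔞 : Ideal P := J ⊔ I.map (algebraMap A P) with h𝔞
  let φ : P →+* P' := algebraMap P P'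
  set J' : Ideal P' := J.map φ with hJ'
  set 𝔞' : Ideal P' := 𝔞.map φ with h𝔞'
  set KP' : Ideal P' := I.map (algebraMap A P') with hKP'
  have h𝔞'eq : 𝔞' = J' ⊔ KP' := by
    rw [h𝔞', h𝔞, Ideal.map_sup, Ideal.map_map, hKP', hJ', IsScalarTower.algebraMap_eq A P P']
  let f' : Fin m → P' := fun i => φ (f i)
  have hJ'span : J' = Ideal.span (Set.range f') := by
    rw [hJ', hJ, Ideal.map_span, ← Set.range_comp]; rfl
  obtain ⟨s', hs'⟩ := exists_extend_functional (A := A) (S := P) (T := P') s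
  let M₀ : Matrix (Fin m) (Fin m) P := Matrix.of fun i k => s (D A P (f i)) k
  let M₀' : Matrix (Fin m) (Fin m) P' := Matrix.of fun i k => s' (D A P' (f' i)) k
  have hM₀' : ∀ i k, M₀' i k = φ (M₀ i k) := fun i k => hs' (f i) k
  let g : Fin m → P' := fun i => ∑ l, E i l * f' l
  let M : Matrix (Fin m) (Fin m) P' := Matrix.of fun i k => s' (D A P' (g i)) k
  have hEM' : ∀ i k, E i k - M₀' i k ∈ 𝔞' := by
    intro i k; rw [hM₀']; exact hEM i k
  have hJ'𝔞' : J' ≤ 𝔞' := by rw [h𝔞'eq]; exact le_sup_left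
  have hf'J' : ∀ i, f' i ∈ J' := fun i => by rw [hJ'span]; exact Ideal.subset_span ⟨i, rfl⟩
  have hdet : (M * E + (1 - E)).det - 1 ∈ 𝔞' :=
    det_sub_one_mem_of_data 𝔞' J' hJ'𝔞' s' f' g hf'J' E M₀' M hE (fun i => rfl)
      (fun i k => rfl) (fun i k => rfl) hEM'
  have hz' : ∀ i, f' i - ∑ l, M₀' i l * f' l ∈ J' ^ 2 ⊔ KP' := by
    intro i
    have h1 := Ideal.mem_map_of_mem φ (hz i)
    rw [Ideal.map_sup, Ideal.map_pow, Ideal.map_map, ← IsScalarTower.algebraMap_eq A P P'] at h1
    rw [map_sub, map_sum] at h1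
    simp only [map_mul] at h1
    have e : ∑ l, M₀' i l * f' l = ∑ l, φ (s (D A P (f i)) l) * φ (f l) :=
      Finset.sum_congr rfl fun l _ => by rw [hM₀']; rfl
    rw [e]
    exact h1
  obtain ⟨r, hr1, hr2⟩ :=
    exists_mul_mem 𝔞' J' KP' f' g hJ'span hJ'𝔞' E M₀' (fun i => rfl) hEM' hz'
  set U : Matrix (Fin m) (Fin m) P' := M * E + (1 - E) with hU
  let h₂ : P' := U.det * r
  have hh₂ : h₂ - 1 ∈ 𝔞' := by
    have : h₂ - 1 = (U.det - 1) * r + (r - 1) := by ring
    rw [this]; exact add_mem (Ideal.mul_mem_right _ _ hdet) hr1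
  have hgg : ∀ i, g i = ∑ l, E i l * g l := by
    intro i
    have : E.mulVec (E.mulVec f') = E.mulVec f' := by rw [Matrix.mulVec_mulVec, hE]
    exact (congrFun this i).symm
  refine ⟨h₂, hh₂, ?_, ?_⟩
  · let ψ : P' →+* Localization.Away h₂ := algebraMap P' (Localization.Away h₂)
    haveI : Algebra.Etale P (Localization.Away h₂) := Algebra.Etale.comp P P' _
    haveI : Algebra.FormallySmooth A (Localization.Away h₂) :=
      Algebra.FormallySmooth.comp A P _
    haveI : Algebra.FinitePresentation A (Localization.Away h₂) :=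
      Algebra.FinitePresentation.trans A P _
    obtain ⟨s₁, hs₁⟩ :=
      exists_extend_functional (A := A) (S := P') (T := Localization.Away h₂) s'
    let E₁ := ψ.mapMatrix E
    let M₁ := ψ.mapMatrix M
    let U₁ := ψ.mapMatrix U
    let g₁ : Fin m → Localization.Away h₂ := fun i => ψ (g i)
    have hunit : IsUnit U₁.det := by
      have h1 : U₁.det = ψ U.det := (RingHom.map_det ψ U).symm
      rw [h1]
      have h2 : IsUnit (ψ h₂) := IsLocalization.Away.algebraMap_isUnit h₂
      have h3 : ψ h₂ = ψ U.det * ψ r := map_mul ψ _ _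
      rw [h3] at h2
      exact isUnit_of_mul_isUnit_left h2
    have hUV : (M₁ * E₁ + (1 - E₁)) * U₁⁻¹ = 1 := by
      have : M₁ * E₁ + (1 - E₁) = U₁ := by
        simp only [M₁, E₁, U₁, hU, map_add, map_mul, map_sub, map_one]
      rw [this]; exact Matrix.mul_nonsing_inv U₁ hunit
    have hE₁ : E₁ * E₁ = E₁ := by
      simp only [E₁, ← map_mul, hE]
    have hg₁ : ∀ i, g₁ i = ∑ l, E₁ i l * g₁ l := by
      intro i
      show ψ (g i) = ∑ l, ψ (E i l) * ψ (g l)
      conv_lhs => rw [hgg i]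
      rw [map_sum]
      simp only [map_mul]
    have hM₁ : ∀ i k, M₁ i k = s₁ (D A (Localization.Away h₂) (g₁ i)) k := by
      intro i k
      exact (hs₁ (g i) k).symm
    have hfs := formallySmooth_quotient_of_matrix s₁ E₁ M₁ U₁⁻¹ g₁ hE₁ hg₁ hM₁ hUV
    have hfp : Algebra.FinitePresentation A
        (Localization.Away h₂ ⧸ Ideal.span (Set.range g₁)) :=
      Algebra.FinitePresentation.quotient (Submodule.fg_span (Set.finite_range g₁))
    exact ⟨hfs, hfp⟩
  · let ψ : P' →+* Localization.Away h₂ := algebraMap P' (Localization.Away h₂)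
    rw [hJ, Ideal.map_span, Ideal.span_le]
    rintro _ ⟨_, ⟨i, rfl⟩, rfl⟩
    have h1 : r * f' i ∈ Ideal.span (Set.range g) ⊔ KP' := hr2 _ (hf'J' i)
    have h2 := Ideal.mem_map_of_mem ψ h1
    rw [Ideal.map_sup, Ideal.map_span, ← Set.range_comp, hKP', Ideal.map_map] at h2
    have hr : IsUnit (ψ r) := by
      have h2' : IsUnit (ψ h₂) := IsLocalization.Away.algebraMap_isUnit h₂
      have h3 : ψ h₂ = ψ U.det * ψ r := map_mul ψ _ _
      rw [h3] at h2'
      exact isUnit_of_mul_isUnit_right h2'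
    rw [map_mul, Ideal.unit_mul_mem_iff_mem _ hr] at h2
    have e1 : algebraMap P (Localization.Away h₂) (f i) = ψ (f' i) :=
      IsScalarTower.algebraMap_apply P P' _ (f i)
    have e2 : ψ.comp (algebraMap A P') = algebraMap A (Localization.Away h₂) :=
      (IsScalarTower.algebraMap_eq A P' _).symm
    rw [e2] at h2
    rw [SetLike.mem_coe, e1]
    exact h2

end C1

section C2

variable (A : Type u) [CommRing A] (I : Ideal A)
  (R₀ : Type u) [CommRing R₀] [Algebra A R₀]
  (B : Type u) [CommRing B] [Algebra R₀ B] [Algebra A B] [IsScalarTower A R₀ B]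

/-- A smooth `A`-algebra mapping to the henselization `B` of `(R₀, I R₀)`, bijectively modulo `I`,
when `R₀ / I R₀` is smooth over `A / I`. -/
theorem exists_smooth_model_of_presentation
    (hB : Hens2.IsPairHenselization R₀ (I.map (algebraMap A R₀)) B)
    [Algebra.FormallySmooth (A ⧸ I) (R₀ ⧸ I.map (algebraMap A R₀))]
    (P : Type u) [CommRing P] [Algebra A P] [Algebra.FormallySmooth A P]
    [Algebra.FinitePresentation A P]
    (π : P →ₐ[A] R₀) (hπ : Function.Surjective π) (hfg : (RingHom.ker (π : P →+* R₀)).FG) :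
    ∃ (R : Type u) (_ : CommRing R) (_ : Algebra A R) (_ : Algebra.Smooth A R) (θ : R →ₐ[A] B),
      (∀ b : B, ∃ r : R, b - θ r ∈ I.map (algebraMap A B)) ∧
      ∀ x, θ x ∈ I.map (algebraMap A B) → x ∈ I.map (algebraMap A R) := by
  classical
  obtain ⟨m, f, hf⟩ := Submodule.fg_iff_exists_fin_generating_family.mp hfg
  have hf' : Ideal.span (Set.range f) = RingHom.ker (π : P →+* R₀) := hf
  obtain ⟨s, hs⟩ := exists_functional_of_formallySmooth I π hπ f hf'
  set J : Ideal P := RingHom.ker (π : P →+* R₀) with hJ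
  have hJmem : ∀ x, x ∈ J ↔ π x = 0 := fun _ => Iff.rfl
  have hfJ : ∀ i, f i ∈ J := fun i => by rw [← hf']; exact Ideal.subset_span ⟨i, rfl⟩
  set 𝔞 : Ideal P := J ⊔ I.map (algebraMap A P) with h𝔞
  let M₀ : Matrix (Fin m) (Fin m) P := Matrix.of fun i k => s (D A P (f i)) k
  have hz : ∀ i, f i - ∑ l, M₀ i l * f l ∈ J ^ 2 ⊔ I.map (algebraMap A P) :=
    fun i => hs (f i) (hfJ i)
  have hidem : ∀ i k, (M₀ * M₀ - M₀) i k ∈ 𝔞 :=
    sq_sub_self_mem J I s f hfJ M₀ (fun _ _ => rfl) hz
  let Mb : Matrix (Fin m) (Fin m) (P ⧸ 𝔞) := (Ideal.Quotient.mk 𝔞).mapMatrix M₀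
  have hMb : IsIdempotentElem Mb := by
    show Mb * Mb = Mb
    rw [← sub_eq_zero]
    simp only [Mb, ← map_mul, ← map_sub]
    ext i k
    rw [RingHom.mapMatrix_apply, Matrix.map_apply, Matrix.zero_apply,
      Ideal.Quotient.eq_zero_iff_mem]
    exact hidem i k
  obtain ⟨P', _, _, _, hiso, E, hE, hEMb⟩ := PairHens.exists_etale_idempotent_matrix 𝔞 Mb hMb
  letI : Algebra A P' := ((algebraMap P P').comp (algebraMap A P)).toAlgebra
  haveI : IsScalarTower A P P' := IsScalarTower.of_algebraMap_eq (fun _ => rfl)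
  have hEM : ∀ i k, E i k - algebraMap P P' (s (D A P (f i)) k) ∈
      𝔞.map (algebraMap P P') := by
    intro i k
    have h1 := congrFun (congrFun hEMb i) k
    simp only [Matrix.map_apply] at h1
    rw [← Ideal.Quotient.eq, h1]
    rfl
  have hz2 : ∀ i, f i - ∑ l, s (D A P (f i)) l * f l ∈
      Ideal.span (Set.range f) ^ 2 ⊔ I.map (algebraMap A P) := by
    intro i; rw [hf']; exact hz i
  have hEM2 : ∀ i k, E i k - algebraMap P P' (s (D A P (f i)) k) ∈
      (Ideal.span (Set.range f) ⊔ I.map (algebraMap A P)).map (algebraMap P P') := by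
    intro i k; rw [hf']; exact hEM i k
  obtain ⟨h₂, hh₂, hsm, hJle⟩ := exists_away_smooth_quotient I f s hz2 E hE.eq hEM2
  rw [hf'] at hh₂ hJle
  let g₁ : Fin m → Localization.Away h₂ := fun i =>
    algebraMap P' (Localization.Away h₂) (∑ l, E i l * algebraMap P P' (f l))
  let K₁ : Ideal (Localization.Away h₂) := Ideal.span (Set.range g₁)
  -- `B` as a `P`-algebra
  letI : Algebra P B := ((algebraMap R₀ B).comp (π : P →+* R₀)).toAlgebra
  have hPB : ∀ p : P, algebraMap P B p = algebraMap R₀ B (π p) := fun _ => rfl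
  haveI : IsScalarTower A P B := IsScalarTower.of_algebraMap_eq (fun a => by
    rw [hPB, π.commutes, ← IsScalarTower.algebraMap_apply])
  haveI hBh : HenselianRing B (I.map (algebraMap A B)) := by
    rw [← map_tower_eq (R := R₀)]; exact hB.1
  have hjacB : I.map (algebraMap A B) ≤ Ideal.jacobson ⊥ := hBh.jac
  have h𝔞B : ∀ a ∈ 𝔞, algebraMap P (B ⧸ I.map (algebraMap A B)) a = 0 := by
    intro a ha
    obtain ⟨y, hy, z, hz', rfl⟩ := Submodule.mem_sup.mp ha
    have h1 : algebraMap P (B ⧸ I.map (algebraMap A B)) y = 0 := by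
      rw [IsScalarTower.algebraMap_apply P B (B ⧸ I.map (algebraMap A B)), hPB,
        (hJmem y).mp hy, map_zero, map_zero]
    have h2 : algebraMap P (B ⧸ I.map (algebraMap A B)) z = 0 := by
      rw [IsScalarTower.algebraMap_apply P B (B ⧸ I.map (algebraMap A B)),
        Ideal.Quotient.algebraMap_eq, Ideal.Quotient.eq_zero_iff_mem,
        ← map_tower_eq (R := P) (I := I)]
      exact Ideal.mem_map_of_mem _ hz'
    rw [map_add, h1, h2, add_zero]
  let τ : P ⧸ 𝔞 →ₐ[P] B ⧸ I.map (algebraMap A B) :=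
    Ideal.Quotient.liftₐ 𝔞 (Algebra.ofId P _) h𝔞B
  obtain ⟨gB, hgB⟩ :=
    PairHens.exists_algHom_of_henselianRing hiso.section (I.map (algebraMap A B)) τ
  have hgB_alg : ∀ p : P, gB (algebraMap P P' p) = algebraMap R₀ B (π p) := fun p => by
    rw [gB.commutes, hPB]
  have hgB𝔞 : ∀ y ∈ 𝔞.map (algebraMap P P'), gB y ∈ I.map (algebraMap A B) := by
    intro y hy
    rw [← Ideal.Quotient.eq_zero_iff_mem, hgB, (hiso.section_eq_zero_iff y).mpr hy, map_zero]
  have hunit : IsUnit (gB h₂) := by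
    have h1 : gB h₂ - 1 ∈ I.map (algebraMap A B) := by
      have := hgB𝔞 _ hh₂
      rwa [map_sub, map_one] at this
    have h4 := (Ideal.mem_jacobson_bot.mp (hjacB h1)) 1
    rwa [mul_one, sub_add_cancel] at h4
  let θ₁ : Localization.Away h₂ →ₐ[A] B :=
    IsLocalization.Away.liftAlgHom h₂ (f := gB.restrictScalars A) hunit
  have hθ₁ : ∀ y : P', θ₁ (algebraMap P' (Localization.Away h₂) y) = gB y := by
    intro y
    rw [IsLocalization.Away.liftAlgHom_apply, IsLocalization.Away.lift_eq]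
    rfl
  have hθ₁g : ∀ i, θ₁ (g₁ i) = 0 := by
    intro i
    show θ₁ (algebraMap P' (Localization.Away h₂) _) = 0
    rw [hθ₁, map_sum]
    refine Finset.sum_eq_zero fun l _ => ?_
    rw [map_mul, hgB_alg, (hJmem _).mp (hfJ l), map_zero, mul_zero]
  have hθ₁K : ∀ x ∈ K₁, θ₁ x = 0 := by
    intro x hx
    refine Submodule.span_induction (p := fun x _ => θ₁ x = 0) ?_ ?_ ?_ ?_ hx
    · rintro _ ⟨i, rfl⟩; exact hθ₁g i
    · exact map_zero _
    · intro a b _ _ ha hb; rw [map_add, ha, hb, add_zero]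
    · intro c a _ ha; rw [smul_eq_mul, map_mul, ha, mul_zero]
  let θ : (Localization.Away h₂ ⧸ K₁) →ₐ[A] B := Ideal.Quotient.liftₐ K₁ θ₁ hθ₁K
  have hθmk : ∀ w, θ (Ideal.Quotient.mk K₁ w) = θ₁ w := fun _ => rfl
  refine ⟨Localization.Away h₂ ⧸ K₁, inferInstance, inferInstance, hsm, θ, ?_, ?_⟩
  · intro b
    obtain ⟨r₀, hr₀⟩ := exists_sub_mem_of_isPairHenselization hB b
    rw [map_tower_eq] at hr₀
    obtain ⟨p, rfl⟩ := hπ r₀
    refine ⟨Ideal.Quotient.mk K₁ (algebraMap P' (Localization.Away h₂) (algebraMap P P' p)), ?_⟩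
    rw [hθmk, hθ₁, hgB_alg]
    exact hr₀
  · intro x hx
    obtain ⟨w, rfl⟩ := Ideal.Quotient.mk_surjective x
    rw [hθmk] at hx
    set ψ : P' →+* Localization.Away h₂ := algebraMap P' (Localization.Away h₂) with hψ
    set 𝔞' : Ideal P' := 𝔞.map (algebraMap P P') with h𝔞'
    have hbij := Groth.Agent.H8.PairHens.Smooth.bijective_quotientMap_away 𝔞' h₂ (by
      have := neg_mem hh₂; rwa [neg_sub] at this) (Localization.Away h₂)
    obtain ⟨yb, hyb⟩ := hbij.2 (Ideal.Quotient.mk _ w)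
    obtain ⟨y, rfl⟩ := Ideal.Quotient.mk_surjective yb
    rw [Ideal.quotientMap_mk, Ideal.Quotient.eq] at hyb
    obtain ⟨pb, hpb⟩ := hiso.2 (Ideal.Quotient.mk _ y)
    obtain ⟨p, rfl⟩ := Ideal.Quotient.mk_surjective pb
    rw [Ideal.quotientMap_mk, Ideal.Quotient.eq] at hpb
    have hθ𝔞 : ∀ z ∈ 𝔞'.map ψ, θ₁ z ∈ I.map (algebraMap A B) := by
      intro z hz
      have hle : 𝔞'.map ψ ≤
          (I.map (algebraMap A B)).comap (θ₁ : Localization.Away h₂ →+* B) := by
        rw [Ideal.map_le_iff_le_comap]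
        intro y' hy'
        rw [Ideal.mem_comap, Ideal.mem_comap]
        show θ₁ (ψ y') ∈ _
        rw [hθ₁]; exact hgB𝔞 y' hy'
      exact hle hz
    have h1 : w - ψ (algebraMap P P' p) ∈ 𝔞'.map ψ := by
      have e : w - ψ (algebraMap P P' p) = -(ψ y - w) + -ψ (algebraMap P P' p - y) := by
        rw [map_sub]; ring
      rw [e]
      exact add_mem (neg_mem hyb) (neg_mem (Ideal.mem_map_of_mem ψ hpb))
    have h2 : algebraMap R₀ B (π p) ∈ I.map (algebraMap A B) := by
      have h3 := hθ𝔞 _ h1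
      rw [map_sub, hθ₁, hgB_alg] at h3
      have := sub_mem hx h3
      rwa [sub_sub_cancel] at this
    have h4 : π p ∈ I.map (algebraMap A R₀) := by
      have := mem_pow_of_algebraMap_mem hB 1 (π p) (by
        rw [pow_one, map_tower_eq]; exact h2)
      rwa [pow_one] at this
    have h5 : p ∈ 𝔞 := by
      have h6 : I.map (algebraMap A R₀) = (I.map (algebraMap A P)).map (π : P →+* R₀) := by
        rw [Ideal.map_map]; congr 1; ext a; exact (π.commutes a).symm
      rw [h6] at h4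
      obtain ⟨p', hp', hp''⟩ := (Ideal.mem_map_iff_of_surjective (π : P →+* R₀) hπ).mp h4
      have hp3 : π p' = π p := hp''
      have : p = (p - p') + p' := by ring
      rw [this]
      exact add_mem (Ideal.mem_sup_left ((hJmem _).mpr (by rw [map_sub, hp3, sub_self])))
        (Ideal.mem_sup_right hp')
    have h7 : w ∈ 𝔞'.map ψ := by
      have h8 : ψ (algebraMap P P' p) ∈ 𝔞'.map ψ :=
        Ideal.mem_map_of_mem ψ (Ideal.mem_map_of_mem _ h5)
      have := add_mem h1 h8
      rwa [sub_add_cancel] at this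
    have h9 : 𝔞'.map ψ ≤ K₁ ⊔ I.map (algebraMap A (Localization.Away h₂)) := by
      rw [h𝔞', Ideal.map_map, h𝔞, Ideal.map_sup]
      have e3 : ψ.comp (algebraMap P P') = algebraMap P (Localization.Away h₂) :=
        (IsScalarTower.algebraMap_eq P P' _).symm
      refine sup_le ?_ ?_
      · rw [e3]; exact hJle
      · rw [Ideal.map_map, e3, ← IsScalarTower.algebraMap_eq A P (Localization.Away h₂)]
        exact le_sup_right
    have h10 := h9 h7
    obtain ⟨k, hk, ι, hι, rfl⟩ := Submodule.mem_sup.mp h10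
    rw [map_add, Ideal.Quotient.eq_zero_iff_mem.mpr hk, zero_add]
    have := Ideal.mem_map_of_mem (Ideal.Quotient.mk K₁) hι
    rwa [Ideal.map_map] at this

end C2

section Flat

/-- A surjection onto a flat module which is injective modulo a nilpotent ideal is injective. -/
theorem injective_of_flat_of_nilpotent {Λ M N : Type*} [CommRing Λ] [AddCommGroup M]
    [AddCommGroup N] [Module Λ M] [Module Λ N] [Module.Flat Λ N]
    (𝔫 : Ideal Λ) (n : ℕ) (h𝔫 : 𝔫 ^ n = ⊥) (u : M →ₗ[Λ] N) (hu : Function.Surjective u)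
    (hker : LinearMap.ker u ≤ 𝔫 • (⊤ : Submodule Λ M)) : Function.Injective u := by
  have h1 : LinearMap.ker u = 𝔫 • LinearMap.ker u := by
    have := LinearMap.ker_inf_smul_top_eq_smul_of_flat 𝔫 u hu
    rw [← this]; exact (inf_eq_left.mpr hker).symm
  have h2 : ∀ k : ℕ, LinearMap.ker u = 𝔫 ^ k • LinearMap.ker u := by
    intro k
    induction k with
    | zero => rw [pow_zero, Ideal.one_eq_top, Submodule.top_smul]
    | succ k ih => rw [pow_succ, Submodule.mul_smul, ← h1]; exact ih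
  rw [← LinearMap.ker_eq_bot, h2 n, h𝔫, Submodule.bot_smul]

variable {A : Type u} [CommRing A] (I : Ideal A)
  {H : Type u} [CommRing H] [Algebra A H]
  {B : Type u} [CommRing B] [Algebra H B] [Algebra A B] [IsScalarTower A H B]

theorem mem_pow_of_flat (hsurj : Function.Surjective (algebraMap H B))
    (hinj : ∀ h : H, algebraMap H B h ∈ I.map (algebraMap A B) → h ∈ I.map (algebraMap A H))
    (n : ℕ) (hn : 0 < n)
    [Module.Flat (A ⧸ I ^ n) (B ⧸ (I ^ n).map (algebraMap A B))]
    (h : H) (hh : algebraMap H B h ∈ (I ^ n).map (algebraMap A B)) :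
    h ∈ (I ^ n).map (algebraMap A H) := by
  let u := quotPowHom (I := I) (R := H) (B := B) n
  have hu : Function.Surjective u := by
    intro y
    obtain ⟨b, rfl⟩ := Ideal.Quotient.mk_surjective y
    obtain ⟨x, rfl⟩ := hsurj b
    exact ⟨Ideal.Quotient.mk _ x, rfl⟩
  set 𝔫 : Ideal (A ⧸ I ^ n) := I.map (Ideal.Quotient.mk (I ^ n)) with h𝔫
  have h𝔫n : 𝔫 ^ n = ⊥ := by rw [h𝔫, ← Ideal.map_pow, Ideal.map_quotient_self]
  have hker : LinearMap.ker u.toLinearMap ≤
      𝔫 • (⊤ : Submodule (A ⧸ I ^ n) (H ⧸ (I ^ n).map (algebraMap A H))) := by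
    intro y hy
    obtain ⟨x, rfl⟩ := Ideal.Quotient.mk_surjective y
    have h1 : Ideal.Quotient.mk ((I ^ n).map (algebraMap A B)) (algebraMap H B x) = 0 := hy
    have h2 := Ideal.Quotient.eq_zero_iff_mem.mp h1
    have h3 : (I ^ n).map (algebraMap A B) ≤ I.map (algebraMap A B) :=
      Ideal.map_mono (Ideal.pow_le_self hn.ne')
    have h4 := hinj x (h3 h2)
    rw [Ideal.smul_top_eq_map]
    show Ideal.Quotient.mk _ x ∈
      𝔫.map (algebraMap (A ⧸ I ^ n) (H ⧸ (I ^ n).map (algebraMap A H)))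
    have h5 : 𝔫.map (algebraMap (A ⧸ I ^ n) (H ⧸ (I ^ n).map (algebraMap A H))) =
        (I.map (algebraMap A H)).map (Ideal.Quotient.mk ((I ^ n).map (algebraMap A H))) := by
      rw [h𝔫, Ideal.map_map, Ideal.map_map]
      congr 1
    rw [h5]; exact Ideal.mem_map_of_mem _ h4
  have hinj' := injective_of_flat_of_nilpotent 𝔫 n h𝔫n u.toLinearMap hu hker
  have h1 : u (Ideal.Quotient.mk _ h) = 0 := by
    rw [quotPowHom_mk]; exact Ideal.Quotient.eq_zero_iff_mem.mpr hh
  have h2 : Ideal.Quotient.mk ((I ^ n).map (algebraMap A H)) h = 0 :=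
    hinj' (by rw [AlgHom.toLinearMap_apply, h1, map_zero])
  exact Ideal.Quotient.eq_zero_iff_mem.mp h2

end Flat

section Main

variable (A : Type u) [CommRing A] (I : Ideal A)
  (R₀ : Type u) [CommRing R₀] [Algebra A R₀] [Algebra.FinitePresentation A R₀]
  (B : Type u) [CommRing B] [Algebra R₀ B] [Algebra A B] [IsScalarTower A R₀ B]

theorem hSmooth_structure [hA : HenselianRing A I]
    (hB : Hens2.IsPairHenselization R₀ (I.map (algebraMap A R₀)) B)
    (hsm : ∀ r : ℕ, 1 ≤ r → Algebra.Smooth (A ⧸ I ^ r) (B ⧸ (I ^ r).map (algebraMap A B))) :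
    ∃ (R : Type u) (_ : CommRing R) (_ : Algebra A R) (H : Type u) (_ : CommRing H)
      (_ : Algebra R H) (_ : Algebra A H) (_ : IsScalarTower A R H),
      Algebra.Smooth A R ∧ Hens2.IsPairHenselization R (I.map (algebraMap A R)) H ∧
      ∃ φ : H →ₐ[A] B, Function.Surjective φ ∧ (RingHom.ker φ).FG ∧
        ∀ n : ℕ, RingHom.ker φ ≤ (I ^ n).map (algebraMap A H) := by
  classical
  haveI := hsm 1 le_rfl
  haveI e1 : Algebra.Smooth (A ⧸ I ^ 1) (R₀ ⧸ (I ^ 1).map (algebraMap A R₀)) :=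
    Algebra.Smooth.of_equiv (quotPowEquiv hB 1).symm
  haveI : Algebra.FormallySmooth (A ⧸ I) (R₀ ⧸ I.map (algebraMap A R₀)) :=
    formallySmooth_quotient_of_eq (K := I ^ 1) (pow_one I)
  obtain ⟨n, π, hπ, hfg⟩ := (Algebra.FinitePresentation.out : ∃ (n : ℕ)
    (f : MvPolynomial (Fin n) A →ₐ[A] R₀), Function.Surjective f ∧ (RingHom.ker f.toRingHom).FG)
  obtain ⟨R, _, _, hRsm, θ, hsurj, hinj⟩ :=
    exists_smooth_model_of_presentation A I R₀ B hB (MvPolynomial (Fin n) A) π hπ hfg
  haveI := hRsm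
  let H := Hp R (I.map (algebraMap A R))
  letI : Algebra A H := ((algebraMap R H).comp (algebraMap A R)).toAlgebra
  haveI : IsScalarTower A R H := IsScalarTower.of_algebraMap_eq (fun _ => rfl)
  have hH : Hens2.IsPairHenselization R (I.map (algebraMap A R)) H := isPairHenselization R _
  obtain ⟨φ, hφθ, hφsurj, hfg', hinjφ⟩ :=
    HEt.structure_of_model A I R₀ B hB R θ hsurj hinj H hH
  refine ⟨R, inferInstance, inferInstance, H, inferInstance, inferInstance, inferInstance,
    inferInstance, hRsm, hH, φ, hφsurj, hfg', ?_⟩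
  intro n x hx
  rcases Nat.eq_zero_or_pos n with hn | hn
  · subst hn
    rw [pow_zero, Ideal.one_eq_top, Ideal.map_top]; trivial
  letI : Algebra H B := φ.toRingHom.toAlgebra
  haveI : IsScalarTower A H B := IsScalarTower.of_algebraMap_eq (fun a => (φ.commutes a).symm)
  haveI : Algebra.Smooth (A ⧸ I ^ n) (B ⧸ (I ^ n).map (algebraMap A B)) := hsm n hn
  refine mem_pow_of_flat I (H := H) (B := B) hφsurj hinjφ n hn x ?_
  have : φ x = 0 := hx
  show φ x ∈ _
  rw [this]; exact Ideal.zero_mem _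

end Main

end Groth.Agent.H8.SmLift
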