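import Mathlib
import Groth.Agent.Lib.Helper8.SmLift.Model
import Groth.Agent.Lib.Helper8.PairHens.Henselization

/-! Smooth algebras lift along arbitrary quotients `R → R/I` (helper8). -/

set_option autoImplicit false
set_option linter.style.haveILetI false
set_option linter.unusedSectionVars false
universe u

namespace Groth.Agent.H8.SmLift

open Groth.Agent.H8.PairHens

section Q

variable {R : Type*} [CommRing R] (I : Ideal R)

theorem nonempty_algEquiv_quotient {X : Type*} [CommRing X] [Algebra R X]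
    {Y₀ : Type*} [CommRing Y₀] [Algebra R Y₀] [Algebra (R ⧸ I) Y₀] [IsScalarTower R (R ⧸ I) Y₀]
    (σ : X →ₐ[R] Y₀) (hσ : Function.Surjective σ)
    (hker : ∀ x, σ x = 0 → x ∈ I.map (algebraMap R X)) :
    Nonempty ((X ⧸ I.map (algebraMap R X)) ≃ₐ[R ⧸ I] Y₀) := by
  refine ⟨AlgEquiv.ofBijective (descend I σ) ⟨?_, ?_⟩⟩
  · rw [injective_iff_map_eq_zero]
    intro x hx
    obtain ⟨x, rfl⟩ := Ideal.Quotient.mk_surjective x
    rw [descend_mk] at hx
    exact Ideal.Quotient.eq_zero_iff_mem.mpr (hker x hx)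
  · intro y
    obtain ⟨x, rfl⟩ := hσ y
    exact ⟨Ideal.Quotient.mk _ x, descend_mk I σ x⟩

theorem nonempty_algEquiv_quotient_of_bijective_mod {X Y : Type*} [CommRing X] [CommRing Y]
    [Algebra R X] [Algebra R Y] (θ : X →ₐ[R] Y)
    (hsurj : ∀ y : Y, ∃ x : X, y - θ x ∈ I.map (algebraMap R Y))
    (hinj : ∀ x, θ x ∈ I.map (algebraMap R Y) → x ∈ I.map (algebraMap R X)) :
    Nonempty ((X ⧸ I.map (algebraMap R X)) ≃ₐ[R ⧸ I] (Y ⧸ I.map (algebraMap R Y))) := by
  refine nonempty_algEquiv_quotient I ((Ideal.Quotient.mkₐ R _).comp θ) ?_ ?_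
  · intro y
    obtain ⟨y, rfl⟩ := Ideal.Quotient.mk_surjective y
    obtain ⟨x, hx⟩ := hsurj y
    refine ⟨x, ?_⟩
    show Ideal.Quotient.mk _ (θ x) = Ideal.Quotient.mk _ y
    rw [eq_comm, Ideal.Quotient.eq]; exact hx
  · intro x hx
    exact hinj x (Ideal.Quotient.eq_zero_iff_mem.mp hx)

theorem nonempty_algEquiv_doubleQuotient {P : Type*} [CommRing P] [Algebra R P]
    {A₀ : Type*} [CommRing A₀] [Algebra R A₀] [Algebra (R ⧸ I) A₀] [IsScalarTower R (R ⧸ I) A₀]
    (σ₀ : P →ₐ[R] A₀) (hσ₀ : Function.Surjective σ₀) (J : Ideal P) (hJ : ∀ a ∈ J, σ₀ a = 0)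
    (hker : ∀ p, σ₀ p = 0 → p ∈ J ⊔ I.map (algebraMap R P)) :
    Nonempty (((P ⧸ J) ⧸ I.map (algebraMap R (P ⧸ J))) ≃ₐ[R ⧸ I] A₀) := by
  refine nonempty_algEquiv_quotient I (Ideal.Quotient.liftₐ J σ₀ hJ) ?_ ?_
  · intro y
    obtain ⟨p, rfl⟩ := hσ₀ y
    exact ⟨Ideal.Quotient.mk J p, rfl⟩
  · intro x hx
    obtain ⟨p, rfl⟩ := Ideal.Quotient.mk_surjective x
    have hp : σ₀ p = 0 := hx
    obtain ⟨j, hj, ι, hι, rfl⟩ := Submodule.mem_sup.mp (hker p hp)
    rw [map_add, Ideal.Quotient.eq_zero_iff_mem.mpr hj, zero_add]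
    have := Ideal.mem_map_of_mem (Ideal.Quotient.mk J) hι
    rwa [Ideal.map_map] at this

end Q

section Main

variable {R A₀ : Type u} [CommRing R] (I : Ideal R) [CommRing A₀]
  [Algebra (R ⧸ I) A₀] [Algebra.FormallySmooth (R ⧸ I) A₀] [Algebra R A₀]
  [IsScalarTower R (R ⧸ I) A₀]

theorem exists_smooth_lift_of_presentation
    (P : Type u) [CommRing P] [Algebra R P] [Algebra.FormallySmooth R P]
    [Algebra.FinitePresentation R P]
    (σ₀ : P →ₐ[R] A₀) (hσ₀ : Function.Surjective σ₀) (J : Ideal P) (hJfg : J.FG)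
    (hJ : ∀ a ∈ J, σ₀ a = 0) (hker : ∀ p, σ₀ p = 0 → p ∈ J ⊔ I.map (algebraMap R P)) :
    ∃ (A : Type u) (_ : CommRing A) (_ : Algebra R A), Algebra.Smooth R A ∧
      Nonempty ((A ⧸ I.map (algebraMap R A)) ≃ₐ[R ⧸ I] A₀) := by
  obtain ⟨e₁⟩ := nonempty_algEquiv_doubleQuotient I σ₀ hσ₀ J hJ hker
  haveI : Algebra.FormallySmooth (R ⧸ I) ((P ⧸ J) ⧸ I.map (algebraMap R (P ⧸ J))) :=
    Algebra.FormallySmooth.of_equiv e₁.symm
  let B := Hp (P ⧸ J) (I.map (algebraMap R (P ⧸ J)))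
  letI : Algebra R B := ((algebraMap (P ⧸ J) B).comp (algebraMap R (P ⧸ J))).toAlgebra
  haveI : IsScalarTower R (P ⧸ J) B := IsScalarTower.of_algebraMap_eq (fun _ => rfl)
  have hB : Hens2.IsPairHenselization (P ⧸ J) (I.map (algebraMap R (P ⧸ J))) B :=
    isPairHenselization (P ⧸ J) _
  have hπ : Function.Surjective (Ideal.Quotient.mkₐ R J) := Ideal.Quotient.mkₐ_surjective R J
  have hfg : (RingHom.ker ((Ideal.Quotient.mkₐ R J : P →ₐ[R] P ⧸ J) : P →+* P ⧸ J)).FG := by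
    have : RingHom.ker ((Ideal.Quotient.mkₐ R J : P →ₐ[R] P ⧸ J) : P →+* P ⧸ J) = J := by
      ext x
      rw [RingHom.mem_ker]
      exact Ideal.Quotient.eq_zero_iff_mem
    rw [this]; exact hJfg
  obtain ⟨A, _, _, hAsm, θ, hsurj, hinj⟩ :=
    exists_smooth_model_of_presentation R I (P ⧸ J) B hB P (Ideal.Quotient.mkₐ R J) hπ hfg
  obtain ⟨e₂⟩ := nonempty_algEquiv_quotient_of_bijective_mod I θ hsurj hinj
  obtain ⟨e₃⟩ := nonempty_algEquiv_quotient_of_bijective_mod I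
    (IsScalarTower.toAlgHom R (P ⧸ J) B)
    (fun b => by
      obtain ⟨r₀, hr₀⟩ := exists_sub_mem_of_isPairHenselization hB b
      rw [map_tower_eq] at hr₀
      exact ⟨r₀, hr₀⟩)
    (fun x hx => by
      have := mem_pow_of_algebraMap_mem hB 1 x (by
        rw [pow_one, map_tower_eq]; exact hx)
      rwa [pow_one] at this)
  exact ⟨A, inferInstance, inferInstance, hAsm, ⟨e₂.trans (e₃.symm.trans e₁)⟩⟩

end Main

section Final

theorem exists_smooth_lift {R A₀ : Type u} [CommRing R] (I : Ideal R) [CommRing A₀]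
    [Algebra (R ⧸ I) A₀] [Algebra.Smooth (R ⧸ I) A₀] :
    ∃ (A : Type u) (_ : CommRing A) (_ : Algebra R A), Algebra.Smooth R A ∧
      Nonempty ((A ⧸ I.map (algebraMap R A)) ≃ₐ[R ⧸ I] A₀) := by
  classical
  obtain ⟨n, πb, hπb, hfgb⟩ := (Algebra.FinitePresentation.out : ∃ (n : ℕ)
    (f : MvPolynomial (Fin n) (R ⧸ I) →ₐ[R ⧸ I] A₀), Function.Surjective f ∧
      (RingHom.ker f.toRingHom).FG)
  obtain ⟨m, fb, hfb⟩ := Submodule.fg_iff_exists_fin_generating_family.mp hfgb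
  have hfb' : Ideal.span (Set.range fb) =
      RingHom.ker (πb : MvPolynomial (Fin n) (R ⧸ I) →+* A₀) := hfb
  letI : Algebra R A₀ := ((algebraMap (R ⧸ I) A₀).comp (Ideal.Quotient.mk I)).toAlgebra
  haveI : IsScalarTower R (R ⧸ I) A₀ := IsScalarTower.of_algebraMap_eq (fun _ => rfl)
  let μr : MvPolynomial (Fin n) R →+* MvPolynomial (Fin n) (R ⧸ I) :=
    MvPolynomial.map (Ideal.Quotient.mk I)
  have hμr : Function.Surjective μr :=
    MvPolynomial.map_surjective (Ideal.Quotient.mk I) Ideal.Quotient.mk_surjective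
  let μ : MvPolynomial (Fin n) R →ₐ[R] MvPolynomial (Fin n) (R ⧸ I) :=
    { μr with
      commutes' := fun r => by
        show μr (algebraMap R _ r) = algebraMap R _ r
        rw [MvPolynomial.algebraMap_apply, MvPolynomial.algebraMap_apply]
        simp [μr] }
  have hμapp : ∀ p, μ p = μr p := fun _ => rfl
  have hμ : Function.Surjective μ := hμr
  have hμker : ∀ p, μ p = 0 → p ∈ I.map (algebraMap R (MvPolynomial (Fin n) R)) := by
    intro p hp
    have h1 : p ∈ RingHom.ker μr := hp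
    rw [MvPolynomial.ker_map, Ideal.mk_ker] at h1
    exact h1
  choose f hf using fun j => hμ (fb j)
  let σ₀ : MvPolynomial (Fin n) R →ₐ[R] A₀ := (πb.restrictScalars R).comp μ
  have hσ₀ : Function.Surjective σ₀ := hπb.comp hμ
  have hσ₀app : ∀ p, σ₀ p = πb (μ p) := fun _ => rfl
  have hfbker : ∀ j, πb (fb j) = 0 := by
    intro j
    have : fb j ∈ RingHom.ker (πb : MvPolynomial (Fin n) (R ⧸ I) →+* A₀) := by
      rw [← hfb']; exact Ideal.subset_span ⟨j, rfl⟩
    exact this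
  have hσ₀J : ∀ a ∈ Ideal.span (Set.range f), σ₀ a = 0 := by
    intro a ha
    refine Submodule.span_induction (p := fun a _ => σ₀ a = 0) ?_ ?_ ?_ ?_ ha
    · rintro _ ⟨j, rfl⟩
      rw [hσ₀app, hf j, hfbker]
    · exact map_zero _
    · intro a b _ _ ha hb; rw [map_add, ha, hb, add_zero]
    · intro c a _ ha; rw [smul_eq_mul, map_mul, ha, mul_zero]
  have hspan : Ideal.span (Set.range fb) = (Ideal.span (Set.range f)).map μr := by
    rw [Ideal.map_span, ← Set.range_comp]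
    congr 2
    funext j
    exact (hf j).symm
  have hker : ∀ p, σ₀ p = 0 →
      p ∈ Ideal.span (Set.range f) ⊔ I.map (algebraMap R (MvPolynomial (Fin n) R)) := by
    intro p hp
    have h1 : μ p ∈ RingHom.ker (πb : MvPolynomial (Fin n) (R ⧸ I) →+* A₀) := hp
    rw [← hfb', hspan] at h1
    obtain ⟨q, hq, hq'⟩ := (Ideal.mem_map_iff_of_surjective μr hμr).mp h1
    have hq3 : μ q = μ p := hq'
    have : p = q + (p - q) := by ring
    rw [this]
    exact add_mem (Ideal.mem_sup_left hq)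
      (Ideal.mem_sup_right (hμker _ (by rw [map_sub, hq3, sub_self])))
  exact exists_smooth_lift_of_presentation I (MvPolynomial (Fin n) R) σ₀ hσ₀
    (Ideal.span (Set.range f)) (Submodule.fg_span (Set.finite_range f)) hσ₀J hker

end Final

end Groth.Agent.H8.SmLift
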