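import Mathlib
import Groth.Prelude.Def_Smoothing
import Groth.Agent.Lib.Helper8.SmLift.Quot

/-! Stacks 07CM (lift once) for the smoothing cluster (helper8). -/

set_option autoImplicit false
set_option linter.style.haveILetI false
set_option linter.unusedSectionVars false
universe u

namespace Groth.Agent.H8.SmLift

open Groth.Agent.H8.PairHens MvPolynomial

theorem exists_finsupp_of_mem_map {R Λ : Type*} [CommRing R] [CommRing Λ] [Algebra R Λ]
    (I : Ideal R) {x : Λ} (hx : x ∈ I.map (algebraMap R Λ)) :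
    ∃ l : R →₀ Λ, (∀ r ∈ l.support, r ∈ I) ∧
      x = ∑ r ∈ l.support, algebraMap R Λ r * l r := by
  have hx' : x ∈ Submodule.span Λ (⇑(algebraMap R Λ) '' (I : Set R)) := hx
  obtain ⟨l, hl, rfl⟩ := (Finsupp.mem_span_image_iff_linearCombination Λ).mp hx'
  refine ⟨l, fun r hr => ?_, ?_⟩
  · exact (Finsupp.mem_supported Λ l).mp hl hr
  · rw [Finsupp.linearCombination_apply, Finsupp.sum]
    refine Finset.sum_congr rfl fun r _ => ?_
    rw [smul_eq_mul, mul_comm]

/-- Uniform version: finitely many elements of `IΛ` written over a common finite index type. -/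
theorem exists_uniform_of_mem_map {R Λ : Type u} [CommRing R] [CommRing Λ] [Algebra R Λ]
    (I : Ideal R) {n : ℕ} (ε : Fin n → Λ) (hε : ∀ i, ε i ∈ I.map (algebraMap R Λ)) :
    ∃ (σ : Type u) (_ : Fintype σ) (ι : σ → R) (lam : Fin n → σ → Λ), (∀ s, ι s ∈ I) ∧
      ∀ i, ε i = ∑ s, algebraMap R Λ (ι s) * lam i s := by
  classical
  choose l hlI hlε using fun i => exists_finsupp_of_mem_map I (hε i)
  let S : Finset R := Finset.univ.biUnion fun i => (l i).support
  have hS : ∀ i, (l i).support ⊆ S := fun i =>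
    Finset.subset_biUnion_of_mem (fun i => (l i).support) (Finset.mem_univ i)
  refine ⟨↥S, inferInstance, fun s => (s : R), fun i s => l i (s : R), ?_, ?_⟩
  · rintro ⟨r, hr⟩
    obtain ⟨i, -, hi⟩ := Finset.mem_biUnion.mp hr
    exact hlI i r hi
  · intro i
    rw [hlε i, Finset.sum_coe_sort S (fun r => algebraMap R Λ r * l i r)]
    refine Finset.sum_subset (hS i) fun r _ hr => ?_
    rw [Finsupp.notMem_support_iff.mp hr, mul_zero]

section Core

variable {R Λ A : Type u} [CommRing R] [CommRing Λ] [Algebra R Λ] (I : Ideal R)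
  [CommRing A] [Algebra R A] (φ : A →ₐ[R] Λ)

theorem lift_once_core {n m : ℕ} (πA : MvPolynomial (Fin n) R →ₐ[R] A)
    (hπA : Function.Surjective πA) (p : Fin m → MvPolynomial (Fin n) R)
    (hp : Ideal.span (Set.range p) = RingHom.ker (πA : MvPolynomial (Fin n) R →+* A))
    (B₁ : Type u) [CommRing B₁] [Algebra R B₁] [Algebra.Smooth R B₁] (ψ₀ : B₁ →ₐ[R] Λ)
    (b : Fin n → B₁) (χ₁ : A →ₐ[R] B₁ ⧸ I.map (algebraMap R B₁))
    (hχb : ∀ i, Ideal.Quotient.mk _ (b i) = χ₁ (πA (X i)))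
    (σ : Type u) [Fintype σ] (ι : σ → R) (hι : ∀ s, ι s ∈ I) (lam : Fin n → σ → Λ)
    (hε : ∀ i, φ (πA (X i)) - ψ₀ (b i) = ∑ s, algebraMap R Λ (ι s) * lam i s) :
    ∃ (B : Type u) (_ : CommRing B) (_ : Algebra R B), Algebra.Smooth R B ∧
      ∃ J : Ideal B, J ≤ I.map (algebraMap R B) ∧ J.FG ∧
        ∃ (g : A →ₐ[R] B ⧸ J) (k : (B ⧸ J) →ₐ[R] Λ), k.comp g = φ := by
  classical
  have hpker : ∀ k, πA (p k) = 0 := fun k => by
    have : p k ∈ RingHom.ker (πA : MvPolynomial (Fin n) R →+* A) := by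
      rw [← hp]; exact Ideal.subset_span ⟨k, rfl⟩
    exact this
  let a : Fin n → A := fun i => πA (X i)
  have hπAa : πA = aeval a := aeval_unique πA
  -- the smooth algebra
  haveI : Algebra.FormallySmooth R (MvPolynomial (Fin n × σ) B₁) :=
    Algebra.FormallySmooth.comp R B₁ _
  haveI : Algebra.FinitePresentation R (MvPolynomial (Fin n × σ) B₁) :=
    Algebra.FinitePresentation.trans R B₁ _
  -- the map to Λ
  letI : Algebra B₁ Λ := ψ₀.toRingHom.toAlgebra
  haveI : IsScalarTower R B₁ Λ := IsScalarTower.of_algebraMap_eq (fun r => (ψ₀.commutes r).symm)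
  have hB₁Λ : ∀ x : B₁, algebraMap B₁ Λ x = ψ₀ x := fun _ => rfl
  let ψ' : MvPolynomial (Fin n × σ) B₁ →ₐ[B₁] Λ := aeval fun k : Fin n × σ => lam k.1 k.2
  let ψ : MvPolynomial (Fin n × σ) B₁ →ₐ[R] Λ := ψ'.restrictScalars R
  have hψ : ∀ x, ψ x = ψ' x := fun _ => rfl
  let b' : Fin n → MvPolynomial (Fin n × σ) B₁ := fun i =>
    C (b i) + ∑ s, algebraMap R (MvPolynomial (Fin n × σ) B₁) (ι s) * X (i, s)
  let c : Fin n → MvPolynomial (Fin n × σ) B₁ := fun i => C (b i)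
  have hψb' : ∀ i, ψ (b' i) = φ (a i) := by
    intro i
    have h1 : ψ (b' i) = ψ₀ (b i) + ∑ s, algebraMap R Λ (ι s) * lam i s := by
      show ψ (C (b i) + ∑ s, algebraMap R (MvPolynomial (Fin n × σ) B₁) (ι s) * X (i, s)) = _
      rw [map_add, map_sum]
      congr 1
      · rw [hψ]; show aeval _ (C (b i)) = _; rw [aeval_C, hB₁Λ]
      · refine Finset.sum_congr rfl fun s _ => ?_
        rw [map_mul, AlgHom.commutes, hψ]
        show _ * aeval _ (X (i, s)) = _
        rw [aeval_X]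
    rw [h1, ← hε i]; ring
  -- the ideal
  let Jgen : Fin m → MvPolynomial (Fin n × σ) B₁ := fun k => aeval b' (p k)
  let J : Ideal (MvPolynomial (Fin n × σ) B₁) := Ideal.span (Set.range Jgen)
  have hψcomp : ∀ q : MvPolynomial (Fin n) R, ψ (aeval b' q) = φ (πA q) := by
    intro q
    have h1 := AlgHom.congr_fun (comp_aeval b' ψ) q
    rw [AlgHom.comp_apply] at h1
    rw [h1]
    have h2 : (fun i => ψ (b' i)) = fun i => φ (a i) := funext hψb'
    rw [h2]
    have h3 := AlgHom.congr_fun (comp_aeval a φ) q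
    rw [AlgHom.comp_apply] at h3
    rw [← h3, ← hπAa]
  -- J ≤ I B
  have hJle : J ≤ I.map (algebraMap R (MvPolynomial (Fin n × σ) B₁)) := by
    rw [Ideal.span_le]
    rintro _ ⟨k, rfl⟩
    show aeval b' (p k) ∈ I.map (algebraMap R (MvPolynomial (Fin n × σ) B₁))
    rw [← Ideal.Quotient.eq_zero_iff_mem]
    let ρ : MvPolynomial (Fin n × σ) B₁ →ₐ[R] _ :=
      Ideal.Quotient.mkₐ R (I.map (algebraMap R (MvPolynomial (Fin n × σ) B₁)))
    show ρ (aeval b' (p k)) = 0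
    have h1 := AlgHom.congr_fun (comp_aeval b' ρ) (p k)
    rw [AlgHom.comp_apply] at h1
    have hρ : (fun i => ρ (b' i)) = fun i => ρ (c i) := by
      funext i
      show ρ (C (b i) + ∑ s, algebraMap R (MvPolynomial (Fin n × σ) B₁) (ι s) * X (i, s)) = _
      rw [map_add, add_eq_left, map_sum]
      refine Finset.sum_eq_zero fun s _ => ?_
      rw [map_mul]
      have : ρ (algebraMap R (MvPolynomial (Fin n × σ) B₁) (ι s)) = 0 :=
        Ideal.Quotient.eq_zero_iff_mem.mpr (Ideal.mem_map_of_mem _ (hι s))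
      rw [this, zero_mul]
    rw [h1, hρ]
    have h2 := AlgHom.congr_fun (comp_aeval c ρ) (p k)
    rw [AlgHom.comp_apply] at h2
    rw [← h2]
    -- aeval c (p k) = C (aeval b (p k)) and aeval b (p k) ∈ I B₁
    have h3 : aeval c (p k) = C (aeval b (p k)) := by
      have := AlgHom.congr_fun
        (comp_aeval b ((Algebra.ofId B₁ (MvPolynomial (Fin n × σ) B₁)).restrictScalars R)) (p k)
      rw [AlgHom.comp_apply] at this
      exact this.symm
    have h4 : aeval b (p k) ∈ I.map (algebraMap R B₁) := by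
      rw [← Ideal.Quotient.eq_zero_iff_mem]
      have h5 := AlgHom.congr_fun (comp_aeval b (Ideal.Quotient.mkₐ R (I.map (algebraMap R B₁))))
        (p k)
      rw [AlgHom.comp_apply] at h5
      show Ideal.Quotient.mkₐ R _ (aeval b (p k)) = 0
      rw [h5]
      have h6 : (fun i => Ideal.Quotient.mkₐ R (I.map (algebraMap R B₁)) (b i)) =
          fun i => χ₁ (a i) := funext hχb
      rw [h6]
      have h7 := AlgHom.congr_fun (comp_aeval a χ₁) (p k)
      rw [AlgHom.comp_apply] at h7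
      rw [← h7, ← hπAa, hpker, map_zero]
    rw [h3]
    show Ideal.Quotient.mk _ (C (aeval b (p k))) = 0
    rw [Ideal.Quotient.eq_zero_iff_mem]
    have h8 := Ideal.mem_map_of_mem (C : B₁ →+* MvPolynomial (Fin n × σ) B₁) h4
    rw [Ideal.map_map] at h8
    have h9 : (C : B₁ →+* MvPolynomial (Fin n × σ) B₁).comp (algebraMap R B₁) =
        algebraMap R (MvPolynomial (Fin n × σ) B₁) := by
      ext r
      simp [MvPolynomial.algebraMap_apply]
    rw [h9] at h8
    exact h8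
  -- the maps
  let G₀ : MvPolynomial (Fin n) R →ₐ[R] (MvPolynomial (Fin n × σ) B₁ ⧸ J) :=
    (Ideal.Quotient.mkₐ R J).comp (aeval b')
  have hG₀ : ∀ q ∈ RingHom.ker (πA : MvPolynomial (Fin n) R →+* A), G₀ q = 0 := by
    intro q hq
    rw [← hp] at hq
    refine Submodule.span_induction (p := fun q _ => G₀ q = 0) ?_ ?_ ?_ ?_ hq
    · rintro _ ⟨k, rfl⟩
      show Ideal.Quotient.mk J (aeval b' (p k)) = 0
      exact Ideal.Quotient.eq_zero_iff_mem.mpr (Ideal.subset_span ⟨k, rfl⟩)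
    · exact map_zero _
    · intro x y _ _ hx hy; rw [map_add, hx, hy, add_zero]
    · intro x y _ hy; rw [smul_eq_mul, map_mul, hy, mul_zero]
  let eA := Ideal.quotientKerAlgEquivOfSurjective hπA
  let G₁ : (MvPolynomial (Fin n) R ⧸ RingHom.ker (πA : MvPolynomial (Fin n) R →+* A)) →ₐ[R]
      (MvPolynomial (Fin n × σ) B₁ ⧸ J) := Ideal.Quotient.liftₐ _ G₀ hG₀
  let g : A →ₐ[R] (MvPolynomial (Fin n × σ) B₁ ⧸ J) := G₁.comp eA.symm.toAlgHom
  have hg : ∀ q, g (πA q) = Ideal.Quotient.mk J (aeval b' q) := by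
    intro q
    have h1 : eA.symm (πA q) = Ideal.Quotient.mk _ q := by
      rw [AlgEquiv.symm_apply_eq]
      rfl
    show G₁ (eA.symm (πA q)) = _
    rw [h1]
    rfl
  have hψJ : ∀ x ∈ J, ψ x = 0 := by
    intro x hx
    refine Submodule.span_induction (p := fun x _ => ψ x = 0) ?_ ?_ ?_ ?_ hx
    · rintro _ ⟨k, rfl⟩
      show ψ (aeval b' (p k)) = 0
      rw [hψcomp, hpker, map_zero]
    · exact map_zero _
    · intro x y _ _ hx hy; rw [map_add, hx, hy, add_zero]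
    · intro x y _ hy; rw [smul_eq_mul, map_mul, hy, mul_zero]
  let k : (MvPolynomial (Fin n × σ) B₁ ⧸ J) →ₐ[R] Λ := Ideal.Quotient.liftₐ J ψ hψJ
  refine ⟨MvPolynomial (Fin n × σ) B₁, inferInstance, inferInstance, ⟨inferInstance, inferInstance⟩,
    J, hJle, Submodule.fg_span (Set.finite_range Jgen), g, k, ?_⟩
  apply AlgHom.ext
  intro x
  obtain ⟨q, rfl⟩ := hπA x
  rw [AlgHom.comp_apply, hg]
  show ψ (aeval b' q) = _
  exact hψcomp q

end Core

theorem lift_once {R Λ A : Type u} [CommRing R] [CommRing Λ] [Algebra R Λ] (I : Ideal R)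
    (hI : I ^ 2 = ⊥) (h : Smoothing.IndSmooth (R ⧸ I) (Λ ⧸ I.map (algebraMap R Λ)))
    [CommRing A] [Algebra R A] [Algebra.FinitePresentation R A] (φ : A →ₐ[R] Λ) :
    ∃ (B : Type u) (_ : CommRing B) (_ : Algebra R B), Algebra.Smooth R B ∧
      ∃ J : Ideal B, J ≤ I.map (algebraMap R B) ∧ J.FG ∧
        ∃ (g : A →ₐ[R] B ⧸ J) (k : (B ⧸ J) →ₐ[R] Λ), k.comp g = φ := by
  classical
  haveI : Algebra.FinitePresentation (R ⧸ I) (A ⧸ I.map (algebraMap R A)) :=
    Algebra.FinitePresentation.equiv (Algebra.TensorProduct.quotIdealMapEquivQuotTensor A I).symm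
  let φb : (A ⧸ I.map (algebraMap R A)) →ₐ[R ⧸ I] (Λ ⧸ I.map (algebraMap R Λ)) :=
    descend I ((Ideal.Quotient.mkₐ R _).comp φ)
  obtain ⟨Bb, _, _, hBbsm, gbar, hbar, hcomp⟩ := h _ inferInstance φb
  haveI := hBbsm
  obtain ⟨B₁, _, _, hB₁sm, ⟨e⟩⟩ := exists_smooth_lift I (A₀ := Bb)
  haveI := hB₁sm
  set NΛ : Ideal Λ := I.map (algebraMap R Λ) with hNΛ
  have hNΛ2 : NΛ ^ 2 = ⊥ := by rw [hNΛ, ← Ideal.map_pow, hI, Ideal.map_bot]
  let u : B₁ →ₐ[R] Λ ⧸ NΛ := ascend I (hbar.comp e.toAlgHom)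
  let ψ₀ : B₁ →ₐ[R] Λ := Algebra.FormallySmooth.lift NΛ ⟨2, hNΛ2⟩ u
  have hψ₀ : ∀ x, Ideal.Quotient.mk NΛ (ψ₀ x) = hbar (e (Ideal.Quotient.mk _ x)) := fun x =>
    Algebra.FormallySmooth.mk_lift NΛ ⟨2, hNΛ2⟩ u x
  obtain ⟨n, πA, hπA, hfgA⟩ := (Algebra.FinitePresentation.out : ∃ (n : ℕ)
    (f : MvPolynomial (Fin n) R →ₐ[R] A), Function.Surjective f ∧ (RingHom.ker f.toRingHom).FG)
  obtain ⟨m, p, hp⟩ := Submodule.fg_iff_exists_fin_generating_family.mp hfgA
  have hp' : Ideal.span (Set.range p) =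
      RingHom.ker (πA : MvPolynomial (Fin n) R →+* A) := hp
  let χ₁ : A →ₐ[R] B₁ ⧸ I.map (algebraMap R B₁) := ascend I (e.symm.toAlgHom.comp gbar)
  have hχ₁ : ∀ x, χ₁ x = e.symm (gbar (Ideal.Quotient.mk _ x)) := fun _ => rfl
  choose b hb' using fun i : Fin n => Ideal.Quotient.mk_surjective (χ₁ (πA (X i)))
  have hε : ∀ i, φ (πA (X i)) - ψ₀ (b i) ∈ NΛ := by
    intro i
    rw [← Ideal.Quotient.eq, hψ₀, hb' i, hχ₁, AlgEquiv.apply_symm_apply]
    have := AlgHom.congr_fun hcomp (Ideal.Quotient.mk _ (πA (X i)))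
    rw [AlgHom.comp_apply] at this
    rw [this]; rfl
  obtain ⟨σ, _, ι, lam, hι, hlam⟩ :=
    exists_uniform_of_mem_map I (fun i => φ (πA (X i)) - ψ₀ (b i)) hε
  exact lift_once_core I φ πA hπA p hp' B₁ ψ₀ b χ₁ hb' σ ι hι lam hlam

end Groth.Agent.H8.SmLift
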