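import Mathlib
import Groth.Prelude.Def_Smoothing
import Groth.Agent.Lib.Helper8.SmLift.LiftOnce

/-! Stacks 07CN (lift twice) for the smoothing cluster (helper8). -/

set_option autoImplicit false
set_option linter.style.haveILetI false
set_option linter.unusedSectionVars false
universe u

namespace Groth.Agent.H8.SmLift

open Groth.Agent.H8.PairHens MvPolynomial

section Basic

variable {R : Type*} [CommRing R] (I : Ideal R) (hI : I ^ 2 = ⊥)

include hI in
theorem algebraMap_mul_eq_zero {C : Type*} [CommRing C] [Algebra R C] {r : R} (hr : r ∈ I)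
    {x : C} (hx : x ∈ I.map (algebraMap R C)) : algebraMap R C r * x = 0 := by
  have h1 : algebraMap R C r * x ∈ I.map (algebraMap R C) * I.map (algebraMap R C) :=
    Ideal.mul_mem_mul (Ideal.mem_map_of_mem _ hr) hx
  rw [← Ideal.map_mul, ← pow_two, hI, Ideal.map_bot, Ideal.mem_bot] at h1
  exact h1

include hI in
theorem mul_eq_zero_of_mem_map {C : Type*} [CommRing C] [Algebra R C] {x y : C}
    (hx : x ∈ I.map (algebraMap R C)) (hy : y ∈ I.map (algebraMap R C)) : x * y = 0 := by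
  have h1 : x * y ∈ I.map (algebraMap R C) * I.map (algebraMap R C) := Ideal.mul_mem_mul hx hy
  rw [← Ideal.map_mul, ← pow_two, hI, Ideal.map_bot, Ideal.mem_bot] at h1
  exact h1

theorem algHom_mem_map {B C : Type*} [CommRing B] [CommRing C] [Algebra R B] [Algebra R C]
    (α : B →ₐ[R] C) {x : B} (hx : x ∈ I.map (algebraMap R B)) :
    α x ∈ I.map (algebraMap R C) := by
  have h1 := Ideal.mem_map_of_mem (α : B →+* C) hx
  rw [Ideal.map_map] at h1
  have h2 : (α : B →+* C).comp (algebraMap R B) = algebraMap R C := by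
    ext r; exact α.commutes r
  rw [h2] at h1
  exact h1

include hI in
/-- Two algebra maps agreeing modulo `I` agree on `I B` when `I² = 0`. -/
theorem algHom_eq_on_map {B Λ : Type*} [CommRing B] [CommRing Λ] [Algebra R B] [Algebra R Λ]
    (u v : B →ₐ[R] Λ) (huv : ∀ b, u b - v b ∈ I.map (algebraMap R Λ))
    {x : B} (hx : x ∈ I.map (algebraMap R B)) : u x = v x := by
  refine Submodule.span_induction (p := fun x _ => u x = v x) ?_ ?_ ?_ ?_ hx
  · rintro _ ⟨r, _, rfl⟩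
    rw [u.commutes, v.commutes]
  · rw [map_zero, map_zero]
  · intro a b _ _ ha hb; rw [map_add, map_add, ha, hb]
  · intro c y hy hy'
    have h1 : u y ∈ I.map (algebraMap R Λ) := algHom_mem_map I u hy
    have h2 : (u c - v c) * u y = 0 := mul_eq_zero_of_mem_map I hI (huv c) h1
    rw [smul_eq_mul, map_mul, map_mul, ← hy']
    have : u c * u y = (u c - v c) * u y + v c * u y := by ring
    rw [this, h2, zero_add]

end Basic

section Single

variable {R Λ B : Type u} [CommRing R] [CommRing Λ] [Algebra R Λ]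
  (I : Ideal R) (hI : I ^ 2 = ⊥) (h : Smoothing.IndSmooth (R ⧸ I) (Λ ⧸ I.map (algebraMap R Λ)))
  [CommRing B] [Algebra R B] [Algebra.Smooth R B] (φ : B →ₐ[R] Λ)

include hI h in
theorem lift_twice_core' {A' : Type u} [CommRing A'] [Algebra R A']
    [Algebra.FinitePresentation R A']
    (tB : B →ₐ[R] A') (γ : A' →ₐ[R] Λ) (hγtB : ∀ x, γ (tB x) = φ x)
    (ι : Type u) [Fintype ι] (f : ι → R) (hf : ∀ r, f r ∈ I) (bb : ι → B)
    (k : ℕ) (amat : ι → Fin k → R) (xx : Fin k → A')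
    (htBrel : ∀ r, tB (bb r) = ∑ j, algebraMap R A' (amat r j) * xx j)
    (ha : ∀ j, ∑ r, f r * amat r j = 0) :
    ∃ (B' : Type u) (_ : CommRing B') (_ : Algebra R B'), Algebra.Smooth R B' ∧
      ∃ (α : B →ₐ[R] B') (β : B' →ₐ[R] Λ),
        α (∑ r, algebraMap R B (f r) * bb r) = 0 ∧
        ∀ b : B, β (α b) - φ b ∈ I.map (algebraMap R Λ) := by
  classical
  -- reduce modulo I and use ind-smoothness
  haveI : Algebra.FinitePresentation (R ⧸ I) (A' ⧸ I.map (algebraMap R A')) :=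
    Algebra.FinitePresentation.equiv (Algebra.TensorProduct.quotIdealMapEquivQuotTensor A' I).symm
  let γb : (A' ⧸ I.map (algebraMap R A')) →ₐ[R ⧸ I] (Λ ⧸ I.map (algebraMap R Λ)) :=
    descend I ((Ideal.Quotient.mkₐ R _).comp γ)
  obtain ⟨Cb, _, _, hCbsm, gbar, hbar, hcomp⟩ := h _ inferInstance γb
  haveI := hCbsm
  obtain ⟨C₁, _, _, hC₁sm, ⟨e⟩⟩ := exists_smooth_lift I (A₀ := Cb)
  haveI := hC₁sm
  set NΛ : Ideal Λ := I.map (algebraMap R Λ) with hNΛ
  have hNΛ2 : NΛ ^ 2 = ⊥ := by rw [hNΛ, ← Ideal.map_pow, hI, Ideal.map_bot]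
  set NC : Ideal C₁ := I.map (algebraMap R C₁) with hNC
  have hNC2 : NC ^ 2 = ⊥ := by rw [hNC, ← Ideal.map_pow, hI, Ideal.map_bot]
  let ϑ : A' →ₐ[R] C₁ ⧸ NC := ascend I (e.symm.toAlgHom.comp gbar)
  have hϑ : ∀ x, ϑ x = e.symm (gbar (Ideal.Quotient.mk _ x)) := fun _ => rfl
  let α : B →ₐ[R] C₁ := Algebra.FormallySmooth.lift NC ⟨2, hNC2⟩ (ϑ.comp tB)
  have hα : ∀ x, Ideal.Quotient.mk NC (α x) = ϑ (tB x) := fun x =>
    Algebra.FormallySmooth.mk_lift NC ⟨2, hNC2⟩ (ϑ.comp tB) x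
  let β : C₁ →ₐ[R] Λ :=
    Algebra.FormallySmooth.lift NΛ ⟨2, hNΛ2⟩ (ascend I (hbar.comp e.toAlgHom))
  have hβ : ∀ c, Ideal.Quotient.mk NΛ (β c) = hbar (e (Ideal.Quotient.mk _ c)) := fun c =>
    Algebra.FormallySmooth.mk_lift NΛ ⟨2, hNΛ2⟩ (ascend I (hbar.comp e.toAlgHom)) c
  have hβα : ∀ b : B, β (α b) - φ b ∈ NΛ := by
    intro b
    rw [← Ideal.Quotient.eq, hβ, hα, hϑ, AlgEquiv.apply_symm_apply]
    have := AlgHom.congr_fun hcomp (Ideal.Quotient.mk _ (tB b))
    rw [AlgHom.comp_apply] at this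
    rw [this]
    show Ideal.Quotient.mk NΛ (γ (tB b)) = _
    rw [hγtB]
  -- α kills the element
  choose y hy using fun j : Fin k => Ideal.Quotient.mk_surjective (ϑ (xx j))
  have hδ : ∀ r, α (bb r) - ∑ j, algebraMap R C₁ (amat r j) * y j ∈ NC := by
    intro r
    rw [← Ideal.Quotient.eq, hα, htBrel, map_sum, map_sum]
    refine Finset.sum_congr rfl fun j _ => ?_
    rw [map_mul, map_mul, AlgHom.commutes, hy j]
    rfl
  have hαh : α (∑ r, algebraMap R B (f r) * bb r) = 0 := by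
    rw [map_sum]
    have h1 : ∀ r, α (algebraMap R B (f r) * bb r) =
        ∑ j, algebraMap R C₁ (f r * amat r j) * y j := by
      intro r
      rw [map_mul, AlgHom.commutes]
      have h2 : α (bb r) = ∑ j, algebraMap R C₁ (amat r j) * y j +
          (α (bb r) - ∑ j, algebraMap R C₁ (amat r j) * y j) := by ring
      rw [h2, mul_add, algebraMap_mul_eq_zero I hI (hf r) (hδ r), add_zero, Finset.mul_sum]
      refine Finset.sum_congr rfl fun j _ => ?_
      rw [map_mul, mul_assoc]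
    rw [Finset.sum_congr rfl fun r _ => h1 r, Finset.sum_comm]
    refine Finset.sum_eq_zero fun j _ => ?_
    rw [← Finset.sum_mul, ← map_sum, ha j, map_zero, zero_mul]
  exact ⟨C₁, inferInstance, inferInstance, hC₁sm, α, β, hαh, hβα⟩

include hI h in
theorem lift_twice_core (ι : Type u) [Fintype ι] (f : ι → R) (hf : ∀ r, f r ∈ I) (bb : ι → B)
    (k : ℕ) (amat : ι → Fin k → R) (μ : Fin k → Λ)
    (hx : ∀ r, φ (bb r) = ∑ j, amat r j • μ j) (ha : ∀ j, ∑ r, f r * amat r j = 0) :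
    ∃ (B' : Type u) (_ : CommRing B') (_ : Algebra R B'), Algebra.Smooth R B' ∧
      ∃ (α : B →ₐ[R] B') (β : B' →ₐ[R] Λ),
        α (∑ r, algebraMap R B (f r) * bb r) = 0 ∧
        ∀ b : B, β (α b) - φ b ∈ I.map (algebraMap R Λ) := by
  classical
  -- the finitely presented algebra A'
  let rel : ι → MvPolynomial (Fin k) B := fun r =>
    C (bb r) - ∑ j, algebraMap R (MvPolynomial (Fin k) B) (amat r j) * X j
  let K : Ideal (MvPolynomial (Fin k) B) := Ideal.span (Set.range rel)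
  haveI : Algebra.FinitePresentation R (MvPolynomial (Fin k) B) :=
    Algebra.FinitePresentation.trans R B _
  haveI : Algebra.FinitePresentation R (MvPolynomial (Fin k) B ⧸ K) :=
    Algebra.FinitePresentation.quotient (Submodule.fg_span (Set.finite_range rel))
  letI : Algebra B Λ := φ.toRingHom.toAlgebra
  haveI : IsScalarTower R B Λ := IsScalarTower.of_algebraMap_eq (fun r => (φ.commutes r).symm)
  have hBΛ : ∀ x : B, algebraMap B Λ x = φ x := fun _ => rfl
  let γ' : MvPolynomial (Fin k) B →ₐ[B] Λ := aeval μ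
  let γ₀ : MvPolynomial (Fin k) B →ₐ[R] Λ := γ'.restrictScalars R
  have hγ₀ : ∀ x, γ₀ x = γ' x := fun _ => rfl
  have hγ₀C : ∀ x : B, γ₀ (C x) = φ x := by
    intro x
    rw [hγ₀]; show aeval μ (C x) = _; rw [aeval_C, hBΛ]
  have hγ₀rel : ∀ r, γ₀ (rel r) = 0 := by
    intro r
    show γ₀ (C (bb r) - ∑ j, algebraMap R (MvPolynomial (Fin k) B) (amat r j) * X j) = 0
    rw [map_sub, map_sum, hγ₀C, hx r, sub_eq_zero]
    refine Finset.sum_congr rfl fun j _ => ?_
    rw [map_mul, AlgHom.commutes, hγ₀]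
    show _ = _ * aeval μ (X j)
    rw [aeval_X, Algebra.smul_def]
  have hγ₀K : ∀ x ∈ K, γ₀ x = 0 := by
    intro x hx'
    refine Submodule.span_induction (p := fun x _ => γ₀ x = 0) ?_ ?_ ?_ ?_ hx'
    · rintro _ ⟨r, rfl⟩; exact hγ₀rel r
    · exact map_zero _
    · intro x y _ _ hx hy; rw [map_add, hx, hy, add_zero]
    · intro x y _ hy; rw [smul_eq_mul, map_mul, hy, mul_zero]
  let γ : (MvPolynomial (Fin k) B ⧸ K) →ₐ[R] Λ := Ideal.Quotient.liftₐ K γ₀ hγ₀K
  let tB : B →ₐ[R] (MvPolynomial (Fin k) B ⧸ K) :=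
    (Ideal.Quotient.mkₐ R K).comp ((Algebra.ofId B (MvPolynomial (Fin k) B)).restrictScalars R)
  have htB : ∀ x : B, tB x = Ideal.Quotient.mk K (C x) := fun _ => rfl
  have hγtB : ∀ x : B, γ (tB x) = φ x := fun x => hγ₀C x
  have htBrel : ∀ r, tB (bb r) =
      ∑ j, algebraMap R (MvPolynomial (Fin k) B ⧸ K) (amat r j) * Ideal.Quotient.mk K (X j) := by
    intro r
    have h1 : Ideal.Quotient.mk K (rel r) = 0 :=
      Ideal.Quotient.eq_zero_iff_mem.mpr (Ideal.subset_span ⟨r, rfl⟩)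
    have h2 : Ideal.Quotient.mk K (rel r) = Ideal.Quotient.mk K (C (bb r)) -
        ∑ j, algebraMap R (MvPolynomial (Fin k) B ⧸ K) (amat r j) * Ideal.Quotient.mk K (X j) := by
      show Ideal.Quotient.mk K
        (C (bb r) - ∑ j, algebraMap R (MvPolynomial (Fin k) B) (amat r j) * X j) = _
      rw [map_sub, map_sum]
      congr 1
    rw [h2, sub_eq_zero] at h1
    rw [htB, h1]
  exact lift_twice_core' I hI h φ tB γ hγtB ι f hf bb k amat
    (fun j => Ideal.Quotient.mk K (X j)) htBrel ha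

include hI h in
theorem lift_twice_single [Module.Flat R Λ] (h₀ : B) (hh₀ : h₀ ∈ I.map (algebraMap R B))
    (hφh : φ h₀ = 0) :
    ∃ (B' : Type u) (_ : CommRing B') (_ : Algebra R B'), Algebra.Smooth R B' ∧
      ∃ (α : B →ₐ[R] B') (β : B' →ₐ[R] Λ), α h₀ = 0 ∧
        ∀ b : B, β (α b) - φ b ∈ I.map (algebraMap R Λ) := by
  classical
  obtain ⟨l, hlI, hl⟩ := exists_finsupp_of_mem_map I hh₀
  have hl' : h₀ = ∑ r : ↥l.support, algebraMap R B (r : R) * l (r : R) := by
    rw [hl, Finset.sum_coe_sort l.support (fun r => algebraMap R B r * l r)]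
  have hrel : ∑ r : ↥l.support, (r : R) • φ (l (r : R)) = 0 := by
    rw [← hφh, hl', map_sum]
    refine Finset.sum_congr rfl fun r _ => ?_
    rw [map_mul, AlgHom.commutes, Algebra.smul_def]
  obtain ⟨k, amat, μ, hx, ha⟩ := Module.Flat.isTrivialRelation_of_sum_smul_eq_zero
    (R := R) (M := Λ) (f := fun r : ↥l.support => (r : R)) (x := fun r => φ (l (r : R))) hrel
  obtain ⟨B', _, _, hsm, α, β, hα, hβ⟩ := lift_twice_core I hI h φ (↥l.support)
    (fun r => (r : R)) (fun r => hlI r r.2) (fun r => l (r : R)) k amat μ hx ha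
  refine ⟨B', inferInstance, inferInstance, hsm, α, β, ?_, hβ⟩
  rw [hl']; exact hα

end Single

section Main

variable {R Λ : Type u} [CommRing R] [CommRing Λ] [Algebra R Λ] [Module.Flat R Λ]
  (I : Ideal R) (hI : I ^ 2 = ⊥) (h : Smoothing.IndSmooth (R ⧸ I) (Λ ⧸ I.map (algebraMap R Λ)))

include hI h in
theorem lift_twice_fin : ∀ (n : ℕ) (B : Type u) [CommRing B] [Algebra R B] [Algebra.Smooth R B]
    (φ : B →ₐ[R] Λ) (hgen : Fin n → B), (∀ i, hgen i ∈ I.map (algebraMap R B)) →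
    (∀ i, φ (hgen i) = 0) →
    ∃ (B' : Type u) (_ : CommRing B') (_ : Algebra R B'), Algebra.Smooth R B' ∧
      ∃ (α : B →ₐ[R] B') (β : B' →ₐ[R] Λ), (∀ i, α (hgen i) = 0) ∧
        ∀ b : B, β (α b) - φ b ∈ I.map (algebraMap R Λ) := by
  intro n
  induction n with
  | zero =>
    intro B _ _ _ φ hgen _ _
    exact ⟨B, inferInstance, inferInstance, inferInstance, AlgHom.id R B, φ,
      fun i => i.elim0, fun b => by simp⟩
  | succ n ih =>
    intro B _ _ _ φ hgen hmem hφ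
    obtain ⟨B₁, _, _, hsm₁, α₁, β₁, hα₁, hβ₁⟩ :=
      lift_twice_single I hI h φ (hgen 0) (hmem 0) (hφ 0)
    haveI := hsm₁
    have hβ₁' : ∀ b, (β₁.comp α₁) b - φ b ∈ I.map (algebraMap R Λ) := hβ₁
    obtain ⟨B₂, _, _, hsm₂, α₂, β₂, hα₂, hβ₂⟩ := ih B₁ β₁ (fun i => α₁ (hgen i.succ))
      (fun i => algHom_mem_map I α₁ (hmem i.succ))
      (fun i => by
        have := algHom_eq_on_map I hI (β₁.comp α₁) φ hβ₁' (hmem i.succ)
        rw [AlgHom.comp_apply] at this
        rw [this, hφ])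
    refine ⟨B₂, inferInstance, inferInstance, hsm₂, α₂.comp α₁, β₂, ?_, ?_⟩
    · intro i
      refine Fin.cases ?_ (fun i => ?_) i
      · rw [AlgHom.comp_apply, hα₁, map_zero]
      · exact hα₂ i
    · intro b
      have e : β₂ ((α₂.comp α₁) b) - φ b = (β₂ (α₂ (α₁ b)) - β₁ (α₁ b)) + (β₁ (α₁ b) - φ b) := by
        rw [AlgHom.comp_apply]; ring
      rw [e]
      exact add_mem (hβ₂ (α₁ b)) (hβ₁ b)

include hI h in
theorem lift_twice {B : Type u} [CommRing B] [Algebra R B] [Algebra.Smooth R B] (φ : B →ₐ[R] Λ)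
    (J : Ideal B) (hJ : J ≤ I.map (algebraMap R B)) (hJfg : J.FG) (hφJ : ∀ x ∈ J, φ x = 0) :
    ∃ (B' : Type u) (_ : CommRing B') (_ : Algebra R B'), Algebra.Smooth R B' ∧
      ∃ (α : B →ₐ[R] B') (β : B' →ₐ[R] Λ), (∀ x ∈ J, α x = 0) ∧
        ∀ b : B, β (α b) - φ b ∈ I.map (algebraMap R Λ) := by
  obtain ⟨n, hgen, hspan⟩ := Submodule.fg_iff_exists_fin_generating_family.mp hJfg
  have hspan' : Ideal.span (Set.range hgen) = J := hspan
  have hgenJ : ∀ i, hgen i ∈ J := fun i => by rw [← hspan']; exact Ideal.subset_span ⟨i, rfl⟩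
  obtain ⟨B', _, _, hsm, α, β, hα, hβ⟩ := lift_twice_fin I hI h n B φ hgen
    (fun i => hJ (hgenJ i)) (fun i => hφJ _ (hgenJ i))
  refine ⟨B', inferInstance, inferInstance, hsm, α, β, ?_, hβ⟩
  intro x hx
  rw [← hspan'] at hx
  refine Submodule.span_induction (p := fun x _ => α x = 0) ?_ ?_ ?_ ?_ hx
  · rintro _ ⟨i, rfl⟩; exact hα i
  · exact map_zero _
  · intro x y _ _ hx hy; rw [map_add, hx, hy, add_zero]
  · intro x y _ hy; rw [smul_eq_mul, map_mul, hy, mul_zero]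

end Main

end Groth.Agent.H8.SmLift
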