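import Mathlib
import Groth.Prelude.Def_Smoothing
import Groth.Agent.Lib.Helper8.SmLift.LiftTwice

/-! Stacks 07CP / 07CQ: ind-smoothness lifts along nilpotent flat deformations (helper8). -/

set_option autoImplicit false
set_option linter.style.haveILetI false
set_option linter.unusedSectionVars false
universe u

namespace Groth.Agent.H8.SmLift

open Groth.Agent.H8.PairHens MvPolynomial

section Correct

variable {R Λ B B' : Type u} [CommRing R] [CommRing Λ] [Algebra R Λ] (I : Ideal R)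
  (hI : I ^ 2 = ⊥) [CommRing B] [Algebra R B] [Algebra.FormallySmooth R B]
  [CommRing B'] [Algebra R B']

include hI in
/-- If every element of `B` admits a "pointwise" exact lift, formal smoothness gives a global one. -/
theorem exact_correction_core {B'' : Type u} [CommRing B''] [Algebra R B'']
    (φ : B →ₐ[R] Λ) (α₀ : B →ₐ[R] B'') (β'' : B'' →ₐ[R] Λ)
    (hsurj : ∀ b : B, ∃ c : B'', β'' c = φ b ∧ c - α₀ b ∈ I.map (algebraMap R B'')) :
    ∃ α'' : B →ₐ[R] B'', β''.comp α'' = φ ∧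
      ∀ b, α'' b - α₀ b ∈ I.map (algebraMap R B'') := by
  classical
  set N : Ideal B'' := I.map (algebraMap R B'') with hN
  let P₁ : Subalgebra R (B'' × B) :=
    AlgHom.equalizer (β''.comp (AlgHom.fst R B'' B)) (φ.comp (AlgHom.snd R B'' B))
  let P₂ : Subalgebra R (B'' × B) :=
    AlgHom.equalizer ((Ideal.Quotient.mkₐ R N).comp (AlgHom.fst R B'' B))
      ((Ideal.Quotient.mkₐ R N).comp (α₀.comp (AlgHom.snd R B'' B)))
  let P : Subalgebra R (B'' × B) := P₁ ⊓ P₂
  have hP : ∀ p : B'' × B, p ∈ P ↔ β'' p.1 = φ p.2 ∧ p.1 - α₀ p.2 ∈ N := by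
    intro p
    have h1 : p ∈ P ↔ p ∈ P₁ ∧ p ∈ P₂ := Algebra.mem_inf
    rw [h1]
    refine and_congr Iff.rfl ?_
    show Ideal.Quotient.mk N p.1 = Ideal.Quotient.mk N (α₀ p.2) ↔ _
    exact Ideal.Quotient.eq
  let g : P →ₐ[R] B := (AlgHom.snd R B'' B).comp P.val
  have hg : ∀ p : P, g p = (p : B'' × B).2 := fun _ => rfl
  have hgsurj : Function.Surjective g := by
    intro b
    obtain ⟨c, hc1, hc2⟩ := hsurj b
    exact ⟨⟨(c, b), (hP _).mpr ⟨hc1, hc2⟩⟩, rfl⟩
  have hgnil : IsNilpotent (RingHom.ker (g : P →+* B)) := by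
    refine ⟨2, ?_⟩
    rw [Ideal.zero_eq_bot, eq_bot_iff, pow_two, Ideal.mul_le]
    intro x hx y hy
    rw [RingHom.mem_ker] at hx hy
    rw [Ideal.mem_bot]
    have hx1 := ((hP _).mp x.2).2
    have hy1 := ((hP _).mp y.2).2
    have hx2 : (x : B'' × B).2 = 0 := hx
    have hy2 : (y : B'' × B).2 = 0 := hy
    rw [hx2, map_zero, sub_zero] at hx1
    rw [hy2, map_zero, sub_zero] at hy1
    apply Subtype.ext
    apply Prod.ext
    · show (x : B'' × B).1 * (y : B'' × B).1 = 0
      exact mul_eq_zero_of_mem_map I hI hx1 hy1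
    · show (x : B'' × B).2 * (y : B'' × B).2 = 0
      rw [hx2, zero_mul]
  let s : B →ₐ[R] P := Algebra.FormallySmooth.liftOfSurjective (AlgHom.id R B) g hgsurj hgnil
  have hs : ∀ b, g (s b) = b := fun b =>
    Algebra.FormallySmooth.liftOfSurjective_apply (AlgHom.id R B) g hgsurj hgnil b
  let α'' : B →ₐ[R] B'' := (AlgHom.fst R B'' B).comp (P.val.comp s)
  have hα'' : ∀ b, α'' b = ((s b : P) : B'' × B).1 := fun _ => rfl
  refine ⟨α'', ?_, ?_⟩
  · apply AlgHom.ext
    intro b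
    have h1 := ((hP _).mp (s b).2).1
    have h2 : ((s b : P) : B'' × B).2 = b := hs b
    rw [h2] at h1
    exact h1
  · intro b
    have h1 := ((hP _).mp (s b).2).2
    have h2 : ((s b : P) : B'' × B).2 = b := hs b
    rw [h2] at h1
    exact h1

include hI in
/-- Stacks 07CP, last step: an approximate factorization `β ∘ α ≡ φ mod I` through `B'` can be
corrected to an exact one through a polynomial algebra over `B'`. -/
theorem exact_correction [Algebra.FiniteType R B] (φ : B →ₐ[R] Λ) (α : B →ₐ[R] B')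
    (β : B' →ₐ[R] Λ) (hβα : ∀ b, β (α b) - φ b ∈ I.map (algebraMap R Λ)) :
    ∃ (τ : Type u) (_ : Fintype τ) (α'' : B →ₐ[R] MvPolynomial τ B')
      (β'' : MvPolynomial τ B' →ₐ[R] Λ), β''.comp α'' = φ ∧
      ∀ b, α'' b - C (α b) ∈ I.map (algebraMap R (MvPolynomial τ B')) := by
  classical
  obtain ⟨n, f, hf⟩ := Algebra.FiniteType.iff_quotient_mvPolynomial''.mp
    (inferInstance : Algebra.FiniteType R B)
  obtain ⟨σ, _, ι, lam, hι, hlam⟩ := exists_uniform_of_mem_map I
    (fun i : Fin n => φ (f (X i)) - β (α (f (X i))))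
    (fun i => by
      have h1 := hβα (f (X i))
      have h2 : φ (f (X i)) - β (α (f (X i))) = -(β (α (f (X i))) - φ (f (X i))) := by ring
      rw [h2]
      exact neg_mem h1)
  letI : Algebra B' Λ := β.toRingHom.toAlgebra
  haveI : IsScalarTower R B' Λ := IsScalarTower.of_algebraMap_eq (fun r => (β.commutes r).symm)
  have hB'Λ : ∀ x : B', algebraMap B' Λ x = β x := fun _ => rfl
  let β₁ : MvPolynomial (Fin n × σ) B' →ₐ[B'] Λ := aeval fun k : Fin n × σ => lam k.1 k.2
  let β'' : MvPolynomial (Fin n × σ) B' →ₐ[R] Λ := β₁.restrictScalars R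
  have hβ'' : ∀ x, β'' x = β₁ x := fun _ => rfl
  have hβ''C : ∀ x : B', β'' (C x) = β x := by
    intro x
    rw [hβ'']; show aeval _ (C x) = _; rw [aeval_C, hB'Λ]
  have hβ''X : ∀ k : Fin n × σ, β'' (X k) = lam k.1 k.2 := by
    intro k
    rw [hβ'']; show aeval _ (X k) = _; rw [aeval_X]
  let α₀ : B →ₐ[R] MvPolynomial (Fin n × σ) B' :=
    ((Algebra.ofId B' (MvPolynomial (Fin n × σ) B')).restrictScalars R).comp α
  have hα₀ : ∀ b, α₀ b = C (α b) := fun _ => rfl
  set N : Ideal (MvPolynomial (Fin n × σ) B') :=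
    I.map (algebraMap R (MvPolynomial (Fin n × σ) B')) with hN
  let cgen : Fin n → MvPolynomial (Fin n × σ) B' := fun i =>
    α₀ (f (X i)) + ∑ s, algebraMap R (MvPolynomial (Fin n × σ) B') (ι s) * X (i, s)
  have hcgen1 : ∀ i, β'' (cgen i) = φ (f (X i)) := by
    intro i
    show β'' (α₀ (f (X i)) +
      ∑ s, algebraMap R (MvPolynomial (Fin n × σ) B') (ι s) * X (i, s)) = _
    rw [map_add, map_sum, hα₀, hβ''C]
    have h1 : ∑ s, β'' (algebraMap R (MvPolynomial (Fin n × σ) B') (ι s) * X (i, s)) =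
        ∑ s, algebraMap R Λ (ι s) * lam i s := by
      refine Finset.sum_congr rfl fun s _ => ?_
      rw [map_mul, AlgHom.commutes, hβ''X]
    rw [h1, ← hlam i]
    ring
  have hcgen2 : ∀ i, cgen i - α₀ (f (X i)) ∈ N := by
    intro i
    show α₀ (f (X i)) + ∑ s, algebraMap R (MvPolynomial (Fin n × σ) B') (ι s) * X (i, s)
      - α₀ (f (X i)) ∈ N
    rw [add_sub_cancel_left]
    refine Ideal.sum_mem _ fun s _ => ?_
    exact Ideal.mul_mem_right _ _ (Ideal.mem_map_of_mem _ (hι s))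
  have key : ∀ q : MvPolynomial (Fin n) R,
      ∃ c, β'' c = φ (f q) ∧ c - α₀ (f q) ∈ N := by
    intro q
    refine MvPolynomial.induction_on
      (motive := fun q => ∃ c, β'' c = φ (f q) ∧ c - α₀ (f q) ∈ N) q ?_ ?_ ?_
    · intro a
      have hfC : f (C a) = algebraMap R B a := f.commutes a
      refine ⟨algebraMap R _ a, ?_, ?_⟩
      · rw [AlgHom.commutes, hfC, AlgHom.commutes]
      · rw [hfC, AlgHom.commutes, sub_self]
        exact zero_mem _
    · rintro p q ⟨c1, h1, h1'⟩ ⟨c2, h2, h2'⟩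
      refine ⟨c1 + c2, ?_, ?_⟩
      · rw [map_add, map_add, map_add, h1, h2]
      · have : c1 + c2 - α₀ (f (p + q)) = (c1 - α₀ (f p)) + (c2 - α₀ (f q)) := by
          rw [map_add, map_add]; ring
        rw [this]
        exact add_mem h1' h2'
    · rintro p i ⟨c1, h1, h1'⟩
      refine ⟨c1 * cgen i, ?_, ?_⟩
      · rw [map_mul, map_mul, map_mul, h1, hcgen1]
      · have : c1 * cgen i - α₀ (f (p * X i)) =
            (c1 - α₀ (f p)) * cgen i + α₀ (f p) * (cgen i - α₀ (f (X i))) := by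
          rw [map_mul, map_mul]; ring
        rw [this]
        exact add_mem (Ideal.mul_mem_right _ _ h1') (Ideal.mul_mem_left _ _ (hcgen2 i))
  obtain ⟨α'', h1, h2⟩ := exact_correction_core I hI φ α₀ β'' (fun b => by
    obtain ⟨q, rfl⟩ := hf b
    exact key q)
  exact ⟨Fin n × σ, inferInstance, α'', β'', h1, h2⟩

end Correct

/-- Stacks 07CP: the square-zero case. -/
theorem indSmooth_of_sq_zero {R Λ : Type u} [CommRing R] [CommRing Λ] [Algebra R Λ]
    [Module.Flat R Λ] (I : Ideal R) (hI : I ^ 2 = ⊥)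
    (h : Smoothing.IndSmooth (R ⧸ I) (Λ ⧸ I.map (algebraMap R Λ))) :
    Smoothing.IndSmooth R Λ := by
  intro A _ _ hA φA
  haveI := hA
  obtain ⟨B, _, _, hBsm, J, hJle, hJfg, gA, k, hkg⟩ := lift_once I hI h φA
  haveI := hBsm
  let φ : B →ₐ[R] Λ := k.comp (Ideal.Quotient.mkₐ R J)
  have hφ : ∀ b, φ b = k (Ideal.Quotient.mk J b) := fun _ => rfl
  have hφJ : ∀ x ∈ J, φ x = 0 := by
    intro x hx
    rw [hφ, Ideal.Quotient.eq_zero_iff_mem.mpr hx, map_zero]
  obtain ⟨B', _, _, hB'sm, α, β, hαJ, hβα⟩ := lift_twice I hI h φ J hJle hJfg hφJ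
  haveI := hB'sm
  obtain ⟨τ, _, α'', β'', hcomp, hα''⟩ := exact_correction I hI φ α β hβα
  let α₀ : B →ₐ[R] MvPolynomial τ B' :=
    ((Algebra.ofId B' (MvPolynomial τ B')).restrictScalars R).comp α
  have hα₀ : ∀ b, α₀ b = C (α b) := fun _ => rfl
  have hα''J : ∀ x ∈ J, α'' x = 0 := by
    intro x hx
    have h1 : α'' x = α₀ x :=
      algHom_eq_on_map I hI α'' α₀ (fun b => by rw [hα₀]; exact hα'' b) (hJle hx)
    rw [h1, hα₀, hαJ x hx, map_zero]
  let αq : (B ⧸ J) →ₐ[R] MvPolynomial τ B' := Ideal.Quotient.liftₐ J α'' hα''J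
  have hαq : ∀ b, αq (Ideal.Quotient.mk J b) = α'' b := fun _ => rfl
  haveI : Algebra.Smooth R (MvPolynomial τ B') :=
    ⟨Algebra.FormallySmooth.comp R B' _, Algebra.FinitePresentation.trans R B' _⟩
  refine ⟨MvPolynomial τ B', inferInstance, inferInstance, inferInstance, αq.comp gA, β'', ?_⟩
  apply AlgHom.ext
  intro a
  obtain ⟨b, hb⟩ := Ideal.Quotient.mk_surjective (gA a)
  rw [AlgHom.comp_apply, AlgHom.comp_apply, ← hb, hαq]
  have h1 := AlgHom.congr_fun hcomp b
  rw [AlgHom.comp_apply] at h1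
  rw [h1, hφ, hb, ← AlgHom.comp_apply, hkg]

section Transport

/-- Ind-smoothness is invariant under compatible ring isomorphisms of base and algebra. -/
theorem indSmooth_of_ringEquiv {R Λ R' Λ' : Type u} [CommRing R] [CommRing Λ] [Algebra R Λ]
    [CommRing R'] [CommRing Λ'] [Algebra R' Λ'] (e : R ≃+* R') (l : Λ ≃+* Λ')
    (hel : ∀ r, l (algebraMap R Λ r) = algebraMap R' Λ' (e r))
    (h : Smoothing.IndSmooth R Λ) : Smoothing.IndSmooth R' Λ' := by
  intro A' _ _ hA' φ'
  haveI := hA'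
  letI algRR' : Algebra R R' := e.toRingHom.toAlgebra
  letI algRA' : Algebra R A' := ((algebraMap R' A').comp e.toRingHom).toAlgebra
  haveI : IsScalarTower R R' A' := IsScalarTower.of_algebraMap_eq (fun _ => rfl)
  haveI : Algebra.FinitePresentation R R' :=
    Algebra.FinitePresentation.equiv (AlgEquiv.ofRingEquiv (f := e) (fun _ => rfl) : R ≃ₐ[R] R')
  haveI : Algebra.FinitePresentation R A' := Algebra.FinitePresentation.trans R R' A'
  let φ : A' →ₐ[R] Λ :=
    { toRingHom := (l.symm.toRingHom).comp (φ' : A' →+* Λ')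
      commutes' := fun r => by
        show l.symm (φ' (algebraMap R' A' (e r))) = algebraMap R Λ r
        rw [φ'.commutes, ← hel, RingEquiv.symm_apply_apply] }
  have hφ : ∀ a, φ a = l.symm (φ' a) := fun _ => rfl
  obtain ⟨B, _, _, hBsm, g, hh, hgh⟩ := h A' inferInstance φ
  haveI := hBsm
  letI algR'R : Algebra R' R := e.symm.toRingHom.toAlgebra
  letI algR'B : Algebra R' B := ((algebraMap R B).comp e.symm.toRingHom).toAlgebra
  haveI : IsScalarTower R' R B := IsScalarTower.of_algebraMap_eq (fun _ => rfl)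
  haveI : Algebra.Smooth R' R' := ⟨inferInstance, inferInstance⟩
  haveI : Algebra.Smooth R' R :=
    Algebra.Smooth.of_equiv (AlgEquiv.ofRingEquiv (f := e.symm) (fun _ => rfl) : R' ≃ₐ[R'] R)
  haveI hsm' : Algebra.Smooth R' B := Algebra.Smooth.comp R' R B
  let g' : A' →ₐ[R'] B :=
    { toRingHom := (g : A' →+* B)
      commutes' := fun r' => by
        show g (algebraMap R' A' r') = algebraMap R B (e.symm r')
        rw [← g.commutes]
        congr 1
        show algebraMap R' A' r' = algebraMap R' A' (e (e.symm r'))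
        rw [RingEquiv.apply_symm_apply] }
  let h' : B →ₐ[R'] Λ' :=
    { toRingHom := (l.toRingHom).comp (hh : B →+* Λ)
      commutes' := fun r' => by
        show l (hh (algebraMap R B (e.symm r'))) = algebraMap R' Λ' r'
        rw [hh.commutes, hel, RingEquiv.apply_symm_apply] }
  refine ⟨B, inferInstance, algR'B, hsm', g', h', ?_⟩
  apply AlgHom.ext
  intro a
  show l (hh (g a)) = φ' a
  have h1 := AlgHom.congr_fun hgh a
  rw [AlgHom.comp_apply] at h1
  rw [h1, hφ, RingEquiv.apply_symm_apply]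

theorem indSmooth_of_ringEquiv' {R Λ R' Λ' : Type u} [CommRing R] [CommRing Λ] [Algebra R Λ]
    [CommRing R'] [CommRing Λ'] [Algebra R' Λ'] (e : R' ≃+* R) (l : Λ' ≃+* Λ)
    (hel : ∀ r', l (algebraMap R' Λ' r') = algebraMap R Λ (e r'))
    (h : Smoothing.IndSmooth R Λ) : Smoothing.IndSmooth R' Λ' := by
  refine indSmooth_of_ringEquiv e.symm l.symm (fun r => ?_) h
  rw [RingEquiv.symm_apply_eq, hel, RingEquiv.apply_symm_apply]

theorem flat_quotient {R Λ : Type*} [CommRing R] [CommRing Λ] [Algebra R Λ] [Module.Flat R Λ]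
    (K : Ideal R) : Module.Flat (R ⧸ K) (Λ ⧸ K.map (algebraMap R Λ)) :=
  Module.Flat.of_linearEquiv (Algebra.TensorProduct.quotIdealMapEquivQuotTensor Λ K).toLinearEquiv

theorem indSmooth_doubleQuot {R Λ : Type u} [CommRing R] [CommRing Λ] [Algebra R Λ]
    (K I : Ideal R) (hKI : K ≤ I)
    (h : Smoothing.IndSmooth (R ⧸ I) (Λ ⧸ I.map (algebraMap R Λ))) :
    Smoothing.IndSmooth ((R ⧸ K) ⧸ I.map (Ideal.Quotient.mk K))
      ((Λ ⧸ K.map (algebraMap R Λ)) ⧸ (I.map (Ideal.Quotient.mk K)).map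
        (algebraMap (R ⧸ K) (Λ ⧸ K.map (algebraMap R Λ)))) := by
  have hle : K.map (algebraMap R Λ) ≤ I.map (algebraMap R Λ) := Ideal.map_mono hKI
  have hc : (algebraMap (R ⧸ K) (Λ ⧸ K.map (algebraMap R Λ))).comp (Ideal.Quotient.mk K) =
      (Ideal.Quotient.mk (K.map (algebraMap R Λ))).comp (algebraMap R Λ) := by
    ext r; rfl
  have hEq : (I.map (Ideal.Quotient.mk K)).map
      (algebraMap (R ⧸ K) (Λ ⧸ K.map (algebraMap R Λ))) =
      (I.map (algebraMap R Λ)).map (Ideal.Quotient.mk (K.map (algebraMap R Λ))) := by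
    rw [Ideal.map_map, Ideal.map_map, hc]
  refine indSmooth_of_ringEquiv' (DoubleQuot.quotQuotEquivQuotOfLE hKI)
    ((Ideal.quotEquivOfEq hEq).trans (DoubleQuot.quotQuotEquivQuotOfLE hle)) ?_ h
  intro x
  obtain ⟨y, rfl⟩ := Ideal.Quotient.mk_surjective x
  obtain ⟨r, rfl⟩ := Ideal.Quotient.mk_surjective y
  rfl

end Transport

theorem indSmooth_of_pow_eq_bot : ∀ (n : ℕ) (R Λ : Type u) [CommRing R] [CommRing Λ]
    [Algebra R Λ] [Module.Flat R Λ] (I : Ideal R), I ^ n = ⊥ →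
    Smoothing.IndSmooth (R ⧸ I) (Λ ⧸ I.map (algebraMap R Λ)) → Smoothing.IndSmooth R Λ := by
  intro n
  induction n with
  | zero =>
    intro R Λ _ _ _ _ I hI h
    refine indSmooth_of_sq_zero I ?_ h
    rw [eq_bot_iff, ← hI]
    exact Ideal.pow_le_pow_right (Nat.zero_le 2)
  | succ n ih =>
    intro R Λ _ _ _ _ I hI h
    by_cases hn : n + 1 ≤ 2
    · refine indSmooth_of_sq_zero I ?_ h
      rw [eq_bot_iff, ← hI]
      exact Ideal.pow_le_pow_right hn
    · have hn2 : 2 ≤ n := by omega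
      have hKI : I ^ n ≤ I := Ideal.pow_le_self (by omega)
      have hK2 : (I ^ n) ^ 2 = ⊥ := by
        rw [eq_bot_iff, ← hI, ← pow_mul]
        exact Ideal.pow_le_pow_right (by omega)
      haveI := flat_quotient (Λ := Λ) (I ^ n)
      have h1 : Smoothing.IndSmooth (R ⧸ I ^ n) (Λ ⧸ (I ^ n).map (algebraMap R Λ)) := by
        refine ih (R ⧸ I ^ n) (Λ ⧸ (I ^ n).map (algebraMap R Λ))
          (I.map (Ideal.Quotient.mk (I ^ n))) ?_ ?_
        · rw [← Ideal.map_pow, Ideal.map_quotient_self]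
        · exact indSmooth_doubleQuot (I ^ n) I hKI h
      exact indSmooth_of_sq_zero (I ^ n) hK2 h1

/-- Stacks 07CQ. -/
theorem indSmooth_of_nilpotent {R Λ : Type u} [CommRing R] [CommRing Λ] [Algebra R Λ]
    (I : Ideal R) (hI : IsNilpotent I) [Module.Flat R Λ]
    (h : Smoothing.IndSmooth (R ⧸ I) (Λ ⧸ I.map (algebraMap R Λ))) :
    Smoothing.IndSmooth R Λ := by
  obtain ⟨n, hn⟩ := hI
  exact indSmooth_of_pow_eq_bot n R Λ I hn h

end Groth.Agent.H8.SmLift
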