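import Mathlib

open MvPolynomial

namespace Groth.Agent.H8.SmLift

universe u

section
variable {A : Type u} [CommRing A]

theorem sub_C_aeval_mem_span {σ : Type*} (x : σ → A) (p : MvPolynomial σ A) :
    p - C (aeval x p) ∈
      Ideal.span (Set.range fun i : σ => (X i - C (x i) : MvPolynomial σ A)) := by
  induction p using MvPolynomial.induction_on with
  | C a => simp
  | add p q hp hq =>
    have : p + q - C (aeval x (p + q)) = (p - C (aeval x p)) + (q - C (aeval x q)) := by
      simp only [map_add]; ring
    rw [this]; exact Ideal.add_mem _ hp hq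
  | mul_X p i hp =>
    have : p * X i - C (aeval x (p * X i)) =
        (p - C (aeval x p)) * X i + C (aeval x p) * (X i - C (x i)) := by
      simp only [map_mul, aeval_X]; ring
    rw [this]
    exact Ideal.add_mem _ (Ideal.mul_mem_right _ _ hp)
      (Ideal.mul_mem_left _ _ (Ideal.subset_span ⟨i, rfl⟩))

/-- generators of `A` over itself given by a family `x`. -/
noncomputable def selfGen {n : ℕ} (x : Fin n → A) : Algebra.Generators A A (Fin n) where
  val := x
  σ' a := C a
  aeval_val_σ' a := by simp

noncomputable def selfPresentation {n : ℕ} (x : Fin n → A) :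
    Algebra.Presentation A A (Fin n) (Fin n) where
  __ := selfGen x
  relation j := X j - C (x j)
  span_range_relation_eq_ker := by
    rw [Algebra.Generators.ker_eq_ker_aeval_val]
    apply le_antisymm
    · rw [Ideal.span_le]
      rintro _ ⟨j, rfl⟩
      simp [RingHom.mem_ker, selfGen]
    · intro p hp
      have h := sub_C_aeval_mem_span x p
      rw [RingHom.mem_ker] at hp
      have hp' : aeval x p = 0 := hp
      rw [hp', map_zero, sub_zero] at h
      exact h

noncomputable def selfPre {n : ℕ} (x : Fin n → A) :
    Algebra.PreSubmersivePresentation A A (Fin n) (Fin n) where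
  __ := selfPresentation x
  map := id
  map_inj := Function.injective_id

theorem selfPre_jacobiMatrix {n : ℕ} (x : Fin n → A) : (selfPre x).jacobiMatrix = 1 := by
  refine Matrix.ext fun i j => ?_
  rw [Algebra.PreSubmersivePresentation.jacobiMatrix_apply]
  show pderiv i (X j - C (x j) : MvPolynomial (Fin n) A) = _
  simp [Matrix.one_apply, Pi.single_apply, pderiv_X, eq_comm]

noncomputable def selfSub {n : ℕ} (x : Fin n → A) :
    Algebra.SubmersivePresentation A A (Fin n) (Fin n) where
  __ := selfPre x
  jacobian_isUnit := by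
    rw [Algebra.PreSubmersivePresentation.jacobian_eq_jacobiMatrix_det, selfPre_jacobiMatrix,
      Matrix.det_one, map_one]
    exact isUnit_one

end

theorem exists_submersivePresentation_containing {R A : Type u} [CommRing R] [CommRing A]
    [Algebra R A] [Algebra.IsStandardSmooth R A] (E : Finset A) :
    ∃ (ι σ : Type) (_ : Finite ι) (_ : Finite σ) (P : Algebra.SubmersivePresentation R A ι σ),
      (↑E : Set A) ⊆ Set.range (P.val ∘ P.map) := by
  obtain ⟨ι₀, σ₀, hσ₀, hι₀, ⟨P₀⟩⟩ := Algebra.IsStandardSmooth.out (R := R) (S := A)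
  have := hσ₀
  have := hι₀
  let e : Fin E.card ≃ E := E.equivFin.symm
  let x : Fin E.card → A := fun j => (e j : A)
  refine ⟨Fin E.card ⊕ ι₀, Fin E.card ⊕ σ₀, inferInstance, inferInstance,
    (selfSub x).comp P₀, ?_⟩
  intro a ha
  refine ⟨Sum.inl (e.symm ⟨a, ha⟩), ?_⟩
  show x (e.symm ⟨a, ha⟩) = a
  simp [x]

end Groth.Agent.H8.SmLift
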